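import Cfsg.Agent.Lib.Char.SameCounts.Simple360
import Cfsg.Agent.Lib.Perm.Small.Unique360

/-!
The same-order counts of the alternating groups of degree four, five and six.
-/

set_option autoImplicit false
set_option maxRecDepth 20000

namespace CfsgLib.Char.SameCounts

/-- The Boolean test for the order of an element. -/
def hasOrd {K : Type*} [Group K] [DecidableEq K] (g : K) (m : ℕ) : Bool :=
  decide (g ^ m = 1) && (List.range m).all fun k => decide (k = 0) || !decide (g ^ k = 1)

theorem hasOrd_iff {K : Type*} [Group K] [DecidableEq K] (g : K) {m : ℕ} (hm : 0 < m) :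
    hasOrd g m = true ↔ orderOf g = m := by
  simp only [hasOrd, Bool.and_eq_true, decide_eq_true_eq, List.all_eq_true, List.mem_range, Bool.or_eq_true,
    Bool.not_eq_true', decide_eq_false_iff_not]
  rw [orderOf_eq_iff hm]
  refine ⟨fun h => ⟨h.1, fun k hk hk0 => (h.2 k hk).resolve_left hk0.ne'⟩, fun h => ⟨h.1, fun k hk => ?_⟩⟩
  rcases Nat.eq_zero_or_pos k with h0 | h0
  · exact Or.inl h0
  · exact Or.inr (h.2 k hk h0)

theorem image_counts {K : Type*} [Group K] [Fintype K] [DecidableEq K] (D : List (ℕ × ℕ))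
    (hpos : ∀ p ∈ D, 0 < p.1)
    (hall : ∀ g : K, ∃ p ∈ D, hasOrd g p.1 = true)
    (hex : ∀ p ∈ D, ∃ g : K, hasOrd g p.1 = true)
    (hcnt : ∀ p ∈ D, (Finset.univ.filter fun g : K => hasOrd g p.1 = true).card = p.2) :
    (fun m : ℕ => ocnt K m) '' Set.range (orderOf : K → ℕ) = ↑(D.map Prod.snd).toFinset := by
  have hc : ∀ p ∈ D, ocnt K p.1 = p.2 := by
    intro p hp
    rw [ocnt, Nat.card_eq_fintype_card, Fintype.card_subtype, ← hcnt p hp]
    exact congrArg Finset.card (Finset.filter_congr fun g _ => (hasOrd_iff g (hpos p hp)).symm)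
  ext c
  simp only [Set.mem_image, Set.mem_range, List.coe_toFinset, List.mem_map, Set.mem_setOf_eq,
    exists_exists_eq_and]
  constructor
  · rintro ⟨g, rfl⟩
    obtain ⟨p, hp, hg⟩ := hall g
    exact ⟨p, hp, by rw [(hasOrd_iff g (hpos p hp)).1 hg, hc p hp]⟩
  · rintro ⟨p, hp, rfl⟩
    obtain ⟨g, hg⟩ := hex p hp
    exact ⟨g, by rw [(hasOrd_iff g (hpos p hp)).1 hg, hc p hp]⟩

theorem image_alt_four :
    (fun m : ℕ => ocnt (alternatingGroup (Fin 4)) m) '' Set.range (orderOf : alternatingGroup (Fin 4) → ℕ) =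
      ↑({1, 3, 8} : Finset ℕ) := by
  rw [image_counts [(1, 1), (2, 3), (3, 8)] (by decide) (by decide +kernel) (by decide +kernel) (by decide +kernel)]
  rfl

theorem image_alt_five :
    (fun m : ℕ => ocnt (alternatingGroup (Fin 5)) m) '' Set.range (orderOf : alternatingGroup (Fin 5) → ℕ) =
      ↑({1, 15, 20, 24} : Finset ℕ) := by
  rw [image_counts [(1, 1), (2, 15), (3, 20), (5, 24)] (by decide) (by decide +kernel) (by decide +kernel)
    (by decide +kernel)]
  rfl

theorem image_alt_six :
    (fun m : ℕ => ocnt (alternatingGroup (Fin 6)) m) '' Set.range (orderOf : alternatingGroup (Fin 6) → ℕ) =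
      ↑({1, 45, 80, 90, 144} : Finset ℕ) := by
  rw [image_counts [(1, 1), (2, 45), (3, 80), (4, 90), (5, 144)] (by decide) (by decide +kernel) (by decide +kernel)
    (by decide +kernel)]
  rfl

universe u

/-- The same-order counts determine the alternating groups of degree four, five and six. -/
theorem small_alternating_of_counts {G : Type u} [Group G] [Finite G] (n : ℕ) (hn : n = 4 ∨ n = 5 ∨ n = 6)
    (h : (fun m : ℕ => ocnt G m) '' Set.range (orderOf : G → ℕ) =
      (fun m : ℕ => ocnt (alternatingGroup (Fin n)) m) '' Set.range (orderOf : alternatingGroup (Fin n) → ℕ)) :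
    Nonempty (G ≃* alternatingGroup (Fin n)) := by
  rcases hn with rfl | rfl | rfl
  · exact alt_four_of_vals (vals_of_image h image_alt_four)
  · obtain ⟨h60, h5⟩ := alt_five_facts (vals_of_image h image_alt_five)
    haveI : Fact (Nat.Prime 5) := ⟨Nat.prime_five⟩
    obtain ⟨x, hx⟩ := exists_prime_orderOf_dvd_card' 5 (show 5 ∣ Nat.card G by rw [h60]; norm_num)
    refine CfsgLib.Perm.Dickson.mulEquiv_a5 h60 (P := Subgroup.zpowers x) (by rw [Nat.card_zpowers, hx]) fun hN => ?_
    haveI := hN
    have hf : (Nat.card G).factorization 5 = 1 :=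
      factorization_eq_of (by omega) Nat.prime_five (by rw [h60]; norm_num) (by rw [h60]; norm_num)
    have hle : ocnt G 5 ≤ Nat.card ↥(Subgroup.zpowers x) :=
      Nat.card_le_card_of_injective
        (fun y : {g : G // orderOf g = 5} => (⟨y.1, mem_of_normal_of_sylow_order (N := Subgroup.zpowers x) hf
          (by rw [Nat.card_zpowers, hx, pow_one]) (by rw [y.2, pow_one])⟩ : ↥(Subgroup.zpowers x)))
        fun a b e => Subtype.ext (congrArg (fun z : ↥(Subgroup.zpowers x) => z.1) e)
    rw [Nat.card_zpowers, hx, h5] at hle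
    omega
  · obtain ⟨hc, h3, h5, hmax⟩ := alt_six_facts (vals_of_image h image_alt_six)
    haveI := isSimpleGroup_of_counts hc h3 h5 hmax
    haveI : IsSimpleGroup (alternatingGroup (Fin 6)) := alternatingGroup.isSimpleGroup (by simp)
    obtain ⟨e₁⟩ := CfsgLib.Perm.Small360.equiv_model360 hc
    obtain ⟨e₂⟩ := CfsgLib.Perm.Small360.equiv_model360 (G := alternatingGroup (Fin 6))
      (by rw [nat_card_alternatingGroup, Nat.card_fin]; decide)
    exact ⟨e₁.trans e₂.symm⟩

end CfsgLib.Char.SameCounts
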