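import Cfsg.Agent.Lib.Char.SameCounts.AltFour

/-!
The alternating group of degree five from the set of its same-order counts.
-/

set_option autoImplicit false
set_option maxRecDepth 8000

namespace CfsgLib.Char.SameCounts

universe u

variable {G : Type u} [Group G] [Finite G]

theorem factorization_eq_of {n p k : ℕ} (hn : n ≠ 0) (hp : p.Prime) (h : p ^ k ∣ n) (h' : ¬ p ^ (k + 1) ∣ n) :
    n.factorization p = k := by
  refine le_antisymm ?_ ((hp.pow_dvd_iff_le_factorization hn).1 h)
  by_contra hlt
  exact h' ((hp.pow_dvd_iff_le_factorization hn).2 (by omega))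

/-- The divisors of a `2, 3, 5`-number are `2, 3, 5`-numbers. -/
theorem ocnt_eq_zero_of_prime {p m : ℕ} (hpm : p ∣ m) (hp : p.Prime) (h : ¬ p ∣ Nat.card G) :
    ocnt G m = 0 := by
  refine ocnt_eq_zero_of_dvd hpm ?_
  by_contra h0
  exact h (dvd_card_of_ocnt h0)

theorem alt_five_facts (V : Vals G {1, 15, 20, 24}) :
    Nat.card G = 60 ∧ ocnt G 5 = 24 := by
  have val : ∀ m, ocnt G m = 0 ∨ ocnt G m = 1 ∨ ocnt G m = 15 ∨ ocnt G m = 20 ∨ ocnt G m = 24 := fun m => by
    simpa using V.mem m
  have h2 : ocnt G 2 = 15 := ocnt_two_eq V (by simp) (by decide) (by decide)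
  have h1 : ocnt G 1 = 1 := ocnt_one
  have big : ∀ m, 2 < m → ocnt G m = 0 ∨ ocnt G m = 20 ∨ ocnt G m = 24 := by
    intro m hm
    rcases val m with h | h | h | h | h
    · exact Or.inl h
    · have := le_two_of_odd_count (G := G) (m := m) (by rw [h]; decide); omega
    · have := le_two_of_odd_count (G := G) (m := m) (by rw [h]; decide); omega
    · exact Or.inr (Or.inl h)
    · exact Or.inr (Or.inr h)
  have only24 : ∀ m, 2 < m → ¬ m.totient ∣ 20 → ocnt G m = 0 ∨ ocnt G m = 24 := by
    intro m hm hn
    rcases big m hm with h | h | h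
    · exact Or.inl h
    · exact absurd (h ▸ totient_dvd_ocnt m) hn
    · exact Or.inr h
  have only20 : ∀ m, 2 < m → ¬ m.totient ∣ 24 → ocnt G m = 0 ∨ ocnt G m = 20 := by
    intro m hm hn
    rcases big m hm with h | h | h
    · exact Or.inl h
    · exact Or.inr h
    · exact absurd (h ▸ totient_dvd_ocnt m) hn
  have none : ∀ m, 2 < m → ¬ m.totient ∣ 20 → ¬ m.totient ∣ 24 → ocnt G m = 0 := by
    intro m hm hn hn'
    rcases only24 m hm hn with h | h
    · exact h
    · exact absurd (h ▸ totient_dvd_ocnt m) hn'
  have hcnt : ∀ m, ocnt G m = m.totient * ccnt G m := ocnt_eq_mul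
  -- the primes
  have hprimes : ∀ p, p.Prime → p ∣ Nat.card G → p = 2 ∨ p = 3 ∨ p = 5 := by
    intro p hp hd
    by_cases h2' : p = 2
    · exact Or.inl h2'
    have h0 := ocnt_ne_zero_of_prime hp hd
    have h8 := prime_dvd_succ hp hd
    have hp2 := hp.two_le
    have ht := totient_dvd_ocnt (G := G) p
    rw [Nat.totient_prime hp] at ht
    rcases big p (by omega) with h | h | h
    · exact absurd h h0
    · rw [h] at h8 ht
      rcases (hp.dvd_mul.1 (show p ∣ 3 * 7 from h8)) with h' | h'
      · exact Or.inr (Or.inl ((Nat.prime_dvd_prime_iff_eq hp Nat.prime_three).1 h'))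
      · rw [(Nat.prime_dvd_prime_iff_eq hp (by norm_num)).1 h'] at ht
        norm_num at ht
    · rw [h] at h8
      exact Or.inr (Or.inr ((Nat.prime_dvd_prime_iff_eq hp Nat.prime_five).1 (hp.dvd_of_dvd_pow (show p ∣ 5 ^ 2 from h8))))
  have h3 : 3 ∣ Nat.card G → ocnt G 3 = 20 := by
    intro hd
    have h0 := ocnt_ne_zero_of_prime Nat.prime_three hd
    have h8 := prime_dvd_succ Nat.prime_three hd
    have := big 3 (by norm_num)
    omega
  have h5 : 5 ∣ Nat.card G → ocnt G 5 = 24 := by
    intro hd
    have h0 := ocnt_ne_zero_of_prime Nat.prime_five hd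
    have h8 := prime_dvd_succ Nat.prime_five hd
    have := big 5 (by norm_num)
    omega
  have hne := Nat.card_pos (α := G)
  -- the Sylow subgroups for three and five
  have h27 : ¬ 27 ∣ Nat.card G := by
    intro hd
    have hs := dvd_sum_pow (G := G) (k := 3) Nat.prime_three hd
    simp only [Finset.sum_range_succ, Finset.sum_range_zero, pow_zero, pow_one, zero_add, h1, h3 ((show 3 ∣ 27 by norm_num).trans hd)] at hs
    have := none 27 (by norm_num) (by decide) (by decide)
    have := only24 9 (by norm_num) (by decide)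
    norm_num at hs
    omega
  have h9 : ¬ 9 ∣ Nat.card G := by
    intro hd
    have hd3 : 3 ∣ Nat.card G := (show 3 ∣ 9 by norm_num).trans hd
    have hs := dvd_sum_pow (G := G) (k := 2) Nat.prime_three hd
    simp only [Finset.sum_range_succ, Finset.sum_range_zero, pow_zero, pow_one, zero_add, h1, h3 hd3] at hs
    norm_num at hs
    have := only24 9 (by norm_num) (by decide)
    have h24 : ocnt G 9 = 24 := by omega
    have hle := ccnt_le_of_cyclic_sylow (G := G) (p := 3) (a := 2) (i := 1) Nat.prime_three
      (factorization_eq_of hne.ne' Nat.prime_three hd h27) (by norm_num [h24]) (by norm_num)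
    have e3 := hcnt 3
    have e9 := hcnt 9
    rw [h3 hd3, show Nat.totient 3 = 2 by decide] at e3
    rw [h24, show Nat.totient 9 = 6 by decide] at e9
    norm_num at hle
    omega
  have h125 : ¬ 125 ∣ Nat.card G := by
    intro hd
    have hs := dvd_sum_pow (G := G) (k := 3) Nat.prime_five hd
    simp only [Finset.sum_range_succ, Finset.sum_range_zero, pow_zero, pow_one, zero_add, h1, h5 ((show 5 ∣ 125 by norm_num).trans hd)] at hs
    have := none 125 (by norm_num) (by decide) (by decide)
    have := only20 25 (by norm_num) (by decide)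
    norm_num at hs
    omega
  have h25' : 25 ∣ Nat.card G → ocnt G 25 = 0 := by
    intro hd
    have hs := dvd_sum_pow (G := G) (k := 2) Nat.prime_five hd
    simp only [Finset.sum_range_succ, Finset.sum_range_zero, pow_zero, pow_one, zero_add, h1,
      h5 ((show 5 ∣ 25 by norm_num).trans hd)] at hs
    norm_num at hs
    have := only20 25 (by norm_num) (by decide)
    omega
  obtain ⟨a, hadef⟩ : ∃ a, (Nat.card G).factorization 2 = a := ⟨_, rfl⟩
  have hda : 2 ^ a ∣ Nat.card G := hadef ▸ Nat.ordProj_dvd _ _
  have h32 : ocnt G 32 = 0 := none 32 (by norm_num) (by decide) (by decide)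
  have h4c := big 4 (by norm_num)
  have h8c := big 8 (by norm_num)
  have h16c := only24 16 (by norm_num) (by decide)
  have hs2 : 2 ^ a ∣ 16 + ocnt G 4 + ocnt G 8 + ocnt G 16 ∨ a ≤ 3 := by
    by_cases h4 : a ≤ 3
    · exact Or.inr h4
    left
    have hs := dvd_sum_pow (G := G) (k := a) Nat.prime_two hda
    have hsum : ∑ i ∈ Finset.range (a + 1), ocnt G (2 ^ i) = ∑ i ∈ Finset.range 5, ocnt G (2 ^ i) := by
      refine (Finset.sum_subset (Finset.range_mono (by omega)) fun i _ hi => ?_).symm
      rw [Finset.mem_range, not_lt] at hi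
      exact ocnt_eq_zero_of_dvd (pow_dvd_pow 2 hi) h32
    rw [hsum] at hs
    simp only [Finset.sum_range_succ, Finset.sum_range_zero, pow_zero, pow_one, zero_add, h1, h2] at hs
    norm_num at hs
    convert hs using 1
  have hs16 : a ≤ 3 → ocnt G 16 = 0 := by
    intro h
    by_contra h0
    have := (Nat.prime_two.pow_dvd_iff_le_factorization hne.ne').1 (show 2 ^ 4 ∣ Nat.card G from dvd_card_of_ocnt h0)
    omega
  have hs8 : a ≤ 2 → ocnt G 8 = 0 := by
    intro h
    by_contra h0
    have := (Nat.prime_two.pow_dvd_iff_le_factorization hne.ne').1 (show 2 ^ 3 ∣ Nat.card G from dvd_card_of_ocnt h0)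
    omega
  have hs4 : a ≤ 1 → ocnt G 4 = 0 := by
    intro h
    by_contra h0
    have := (Nat.prime_two.pow_dvd_iff_le_factorization hne.ne').1 (show 2 ^ 2 ∣ Nat.card G from dvd_card_of_ocnt h0)
    omega
  have ha : a ≤ 6 := by
    rcases hs2 with h | h
    · by_contra hlt
      have h7 := (pow_dvd_pow 2 (show 7 ≤ a by omega)).trans h
      omega
    · omega
  have hsumle := V.sum_le
  have hlow : 60 ≤ Nat.card G := le_trans (by decide) hsumle
  -- five divides the order
  have hfive : 5 ∣ Nat.card G := by
    by_contra hno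
    by_cases hd3 : 3 ∣ Nat.card G
    · have h := ccnt_prime_mul_dvd Nat.prime_three hd3 (by norm_num; exact h9)
      have e3 := hcnt 3
      rw [h3 hd3, show Nat.totient 3 = 2 by decide] at e3
      exact hno ((Dvd.intro 6 (show 5 * 6 = ccnt G 3 * 3 by omega)).trans h)
    have hG : Nat.card G = 2 ^ a := by
      refine Nat.eq_of_factorization_eq hne.ne' (by positivity) fun p => ?_
      rw [Nat.prime_two.factorization_pow]
      by_cases h : p = 2
      · subst h; rw [Finsupp.single_eq_same, hadef]
      rw [Finsupp.single_eq_of_ne h]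
      by_cases hp : p.Prime
      · refine Nat.factorization_eq_zero_of_not_dvd fun hd => ?_
        rcases hprimes p hp hd with rfl | rfl | rfl <;> contradiction
      · exact Nat.factorization_eq_zero_of_not_prime _ hp
    have horders : ∀ g : G, orderOf g ∈ (Nat.card G).divisors := fun g =>
      Nat.mem_divisors.2 ⟨orderOf_dvd_natCard g, hne.ne'⟩
    have htot := card_eq_sum horders
    rw [hG, Nat.sum_divisors_prime_pow Nat.prime_two] at htot
    obtain ⟨m, hm⟩ := V.ex 20 (by simp)
    obtain ⟨g, hg⟩ := exists_of_ocnt_ne_zero (G := G) (m := m) (by omega)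
    obtain ⟨i, hi, hmi⟩ := (Nat.dvd_prime_pow Nat.prime_two).1 (hG ▸ hg ▸ orderOf_dvd_natCard g)
    subst hmi
    have h64 : ocnt G 64 = 0 := ocnt_eq_zero_of_dvd (show 32 ∣ 64 by norm_num) h32
    interval_cases a <;> norm_num at hG <;> try omega
    all_goals
      simp only [Finset.sum_range_succ, Finset.sum_range_zero] at htot
      norm_num [h1, h2, h32, h64] at htot
      interval_cases i <;> norm_num at hm <;> omega
  have hh5 := h5 hfive
  have e5 := hcnt 5
  rw [hh5, show Nat.totient 5 = 4 by decide] at e5
  -- the five-part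
  have hnot25 : ¬ 25 ∣ Nat.card G := by
    intro hd
    have hno3 : ¬ 3 ∣ Nat.card G := by
      intro hd3
      have e3 := hcnt 3
      rw [h3 hd3, show Nat.totient 3 = 2 by decide] at e3
      have h30 := ccnt_prime_mul_dvd Nat.prime_three hd3 (by norm_num; exact h9)
      rw [show ccnt G 3 = 10 by omega] at h30
      have hq : ccnt G 3 * 5 ∣ Nat.card G := by
        rw [show ccnt G 3 = 10 by omega, show 10 * 5 = 2 * 25 by norm_num]
        exact Nat.Coprime.mul_dvd_of_dvd_of_dvd (by norm_num) ((show 2 ∣ 10 * 3 by norm_num).trans h30) hd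
      have hN : 5 ∣ Nat.card G / (ccnt G 3) := by
        obtain ⟨c, hc⟩ := hq
        rw [hc, mul_assoc, Nat.mul_div_cancel_left _ (by omega)]
        exact dvd_mul_right _ _
      have h15 : ocnt G 15 ≠ 0 := by
        obtain ⟨P⟩ : Nonempty (Sylow 3 G) := inferInstance
        exact exists_order_mul_of_div (p := 3) (q := 5) Nat.prime_three Nat.prime_five (by norm_num) (by norm_num)
          (by norm_num; exact h9) hd3 hN
      have h15' := only24 15 (by norm_num) (by decide)
      have hle := ccnt_prime_le (G := G) (n := 15) Nat.prime_three (by norm_num; exact h9) (by norm_num) h15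
      have e15 := hcnt 15
      rw [show Nat.totient 15 = 8 by decide] at e15
      omega
    have hG : Nat.card G = 2 ^ a * 5 ^ 2 := by
      refine Nat.eq_of_factorization_eq hne.ne' (by positivity) fun p => ?_
      rw [Nat.factorization_mul (by positivity) (by positivity), Finsupp.add_apply,
        Nat.prime_two.factorization_pow, Nat.prime_five.factorization_pow]
      by_cases h : p = 2
      · subst h; simp [hadef]
      by_cases h5' : p = 5
      · subst h5'; simp [factorization_eq_of hne.ne' Nat.prime_five (k := 2) hd h125]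
      simp only [Finsupp.single_eq_of_ne h, Finsupp.single_eq_of_ne h5', add_zero]
      by_cases hp : p.Prime
      · refine Nat.factorization_eq_zero_of_not_dvd fun hd' => ?_
        rcases hprimes p hp hd' with rfl | rfl | rfl <;> contradiction
      · exact Nat.factorization_eq_zero_of_not_prime _ hp
    have h25 := h25' hd
    have h40 : ocnt G 40 = 0 := by
      rcases only24 40 (by norm_num) (by decide) with h | h
      · exact h
      · exfalso
        exact absurd (h ▸ totient_dvd_ocnt (G := G) 40) (by decide)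
    have horders : ∀ g : G, orderOf g ∈ ({1, 2, 4, 8, 16, 5, 10, 20} : Finset ℕ) := by
      intro g
      have hdg := orderOf_dvd_natCard g
      rw [hG] at hdg
      obtain ⟨d, e, hd', he', hde⟩ := Nat.dvd_mul.1 hdg
      obtain ⟨i, hi, rfl⟩ := (Nat.dvd_prime_pow Nat.prime_two).1 hd'
      obtain ⟨j, hj, rfl⟩ := (Nat.dvd_prime_pow Nat.prime_five).1 he'
      have hne0 := (ocnt_pos (G := G) hde.symm).ne'
      have hj1 : j ≤ 1 := by
        by_contra hj1
        exact hne0 (ocnt_eq_zero_of_dvd (dvd_mul_of_dvd_right (pow_dvd_pow 5 (show 2 ≤ j by omega)) _) h25)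
      have hi4 : i ≤ 4 := by
        by_contra hi4
        exact hne0 (ocnt_eq_zero_of_dvd (dvd_mul_of_dvd_left (pow_dvd_pow 2 (show 5 ≤ i by omega)) _) h32)
      rw [← hde]
      interval_cases j
      · interval_cases i <;> simp
      · by_cases hi3 : i ≤ 2
        · interval_cases i <;> simp
        · exfalso
          exact hne0 (ocnt_eq_zero_of_dvd (show 40 ∣ 2 ^ i * 5 ^ 1 from
            (show 40 = 2 ^ 3 * 5 by norm_num) ▸ Nat.mul_dvd_mul (pow_dvd_pow 2 (by omega)) (by norm_num)) h40)
    have htot := card_eq_sum horders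
    simp [h1, h2, hh5] at htot
    have h10 := big 10 (by norm_num)
    have h20 := only24 20 (by norm_num) (by decide)
    have h20' : ocnt G 4 = 0 → ocnt G 20 = 0 := ocnt_eq_zero_of_dvd (by norm_num)
    interval_cases a <;> norm_num at hG <;> omega
  -- so the five-subgroups are Sylow
  have hdvd30 : ccnt G 5 * 5 ∣ Nat.card G := ccnt_prime_mul_dvd Nat.prime_five hfive (by norm_num; exact hnot25)
  rw [show ccnt G 5 = 6 by omega] at hdvd30
  have hd3 : 3 ∣ Nat.card G := (show 3 ∣ 6 * 5 by norm_num).trans hdvd30
  have hh3 := h3 hd3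
  have e3 := hcnt 3
  rw [hh3, show Nat.totient 3 = 2 by decide] at e3
  have ha1 : 1 ≤ a := by
    rw [← hadef]
    exact Nat.prime_two.factorization_pos_of_dvd hne.ne' ((show 2 ∣ 6 * 5 by norm_num).trans hdvd30)
  have hG : Nat.card G = 2 ^ a * 15 := by
    refine Nat.eq_of_factorization_eq hne.ne' (by positivity) fun p => ?_
    rw [show (15 : ℕ) = 3 * 5 by norm_num, Nat.factorization_mul (by positivity) (by norm_num),
      Nat.factorization_mul (by norm_num) (by norm_num), Finsupp.add_apply, Finsupp.add_apply,
      Nat.prime_two.factorization_pow, Nat.prime_three.factorization, Nat.prime_five.factorization]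
    by_cases h : p = 2
    · subst h; simp [hadef]
    by_cases h3' : p = 3
    · subst h3'; simp [factorization_eq_of hne.ne' Nat.prime_three (k := 1) (by simpa using hd3) h9]
    by_cases h5' : p = 5
    · subst h5'; simp [factorization_eq_of hne.ne' Nat.prime_five (k := 1) (by simpa using hfive) hnot25]
    simp only [Finsupp.single_eq_of_ne h, Finsupp.single_eq_of_ne h3', Finsupp.single_eq_of_ne h5', add_zero]
    by_cases hp : p.Prime
    · refine Nat.factorization_eq_zero_of_not_dvd fun hd' => ?_
      rcases hprimes p hp hd' with rfl | rfl | rfl <;> contradiction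
    · exact Nat.factorization_eq_zero_of_not_prime _ hp
  have z15 : ocnt G 15 = 0 := by
    by_contra h
    have hle := ccnt_prime_le (G := G) (n := 15) Nat.prime_three (by norm_num; exact h9) (by norm_num) h
    have h' := only24 15 (by norm_num) (by decide)
    have e := hcnt 15
    rw [show Nat.totient 15 = 8 by decide] at e
    omega
  have z20 : ocnt G 20 = 0 := by
    by_contra h
    have hle := ccnt_prime_le (G := G) (n := 20) Nat.prime_five (by norm_num; exact hnot25) (by norm_num) h
    have h' := only24 20 (by norm_num) (by decide)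
    have e := hcnt 20
    rw [show Nat.totient 20 = 8 by decide] at e
    omega
  have z12 : ocnt G 12 = 0 := by
    by_contra h
    have hle := ccnt_prime_le (G := G) (n := 12) Nat.prime_three (by norm_num; exact h9) (by norm_num) h
    have h' := big 12 (by norm_num)
    have e := hcnt 12
    rw [show Nat.totient 12 = 4 by decide] at e
    omega
  have c10 : ocnt G 10 = 0 ∨ ocnt G 10 = 24 := by
    rcases big 10 (by norm_num) with h | h | h
    · exact Or.inl h
    · exfalso
      have hle := ccnt_prime_le (G := G) (n := 10) Nat.prime_five (by norm_num; exact hnot25) (by norm_num) (by omega)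
      have e := hcnt 10
      rw [show Nat.totient 10 = 4 by decide] at e
      omega
    · exact Or.inr h
  have horders : ∀ g : G, orderOf g ∈ ({1, 2, 4, 8, 16, 3, 5, 6, 10} : Finset ℕ) := by
    intro g
    have hdg := orderOf_dvd_natCard g
    rw [hG] at hdg
    obtain ⟨d, e, hd', he', hde⟩ := Nat.dvd_mul.1 hdg
    obtain ⟨i, hi, rfl⟩ := (Nat.dvd_prime_pow Nat.prime_two).1 hd'
    have hne0 := (ocnt_pos (G := G) hde.symm).ne'
    have he : e ∈ ({1, 3, 5, 15} : Finset ℕ) := by
      have := Nat.mem_divisors.2 ⟨he', (by norm_num : (15 : ℕ) ≠ 0)⟩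
      rwa [show (15 : ℕ).divisors = {1, 3, 5, 15} by decide] at this
    have hi4 : i ≤ 4 := by
      by_contra hi4
      exact hne0 (ocnt_eq_zero_of_dvd (dvd_mul_of_dvd_left (pow_dvd_pow 2 (show 5 ≤ i by omega)) _) h32)
    rw [← hde]
    simp only [Finset.mem_insert, Finset.mem_singleton] at he
    rcases he with rfl | rfl | rfl | rfl
    · interval_cases i <;> simp
    · by_cases hi1 : i ≤ 1
      · interval_cases i <;> simp
      · exact absurd (ocnt_eq_zero_of_dvd (show 2 ^ 2 * 3 ∣ 2 ^ i * 3 from
          Nat.mul_dvd_mul_right (pow_dvd_pow 2 (by omega)) _) z12) hne0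
    · by_cases hi1 : i ≤ 1
      · interval_cases i <;> simp
      · exact absurd (ocnt_eq_zero_of_dvd (show 2 ^ 2 * 5 ∣ 2 ^ i * 5 from
          Nat.mul_dvd_mul_right (pow_dvd_pow 2 (by omega)) _) z20) hne0
    · exact absurd (ocnt_eq_zero_of_dvd (dvd_mul_left 15 _) z15) hne0
  have htot := card_eq_sum horders
  simp [h1, h2, hh3, hh5] at htot
  have h6 := big 6 (by norm_num)
  refine ⟨?_, hh5⟩
  -- a cyclic Sylow two-subgroup of order eight would have five conjugates
  have hkey : a = 3 → ocnt G 8 = 20 → ocnt G 4 ≤ 10 := by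
    intro ha3 h8
    have hle := ccnt_le_of_cyclic_sylow (G := G) (p := 2) (a := 3) (i := 2) Nat.prime_two (hadef.trans ha3)
      (by norm_num [h8]) (by norm_num)
    have e4 := hcnt 4
    have e8 := hcnt 8
    rw [show Nat.totient 4 = 2 by decide] at e4
    rw [h8, show Nat.totient 8 = 4 by decide] at e8
    norm_num at hle
    omega
  interval_cases a <;> norm_num at hG <;> omega

end CfsgLib.Char.SameCounts
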