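import Cfsg.Agent.Lib.Char.SameCounts.Basic
import Cfsg.Agent.Lib.Perm.Dickson.Recog

/-!
The alternating group of degree four from the set of its same-order counts.
-/

set_option autoImplicit false
set_option maxRecDepth 8000

namespace CfsgLib.Char.SameCounts

universe u

variable {G : Type u} [Group G] [Finite G]

/-- The set of same-order counts is `T`. -/
structure Vals (G : Type*) [Group G] (T : Finset ℕ) : Prop where
  mem : ∀ m, ocnt G m = 0 ∨ ocnt G m ∈ T
  ex : ∀ c ∈ T, ∃ m, ocnt G m = c

theorem vals_of_image {K : Type*} [Group K] [Finite K] {T : Finset ℕ}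
    (h : (fun m : ℕ => ocnt G m) '' Set.range (orderOf : G → ℕ) =
      (fun m : ℕ => ocnt K m) '' Set.range (orderOf : K → ℕ))
    (hK : (fun m : ℕ => ocnt K m) '' Set.range (orderOf : K → ℕ) = ↑T) : Vals G T := by
  rw [hK] at h
  refine ⟨fun m => ?_, fun c hc => ?_⟩
  · by_cases h0 : ocnt G m = 0
    · exact Or.inl h0
    · obtain ⟨g, rfl⟩ := exists_of_ocnt_ne_zero h0
      have : ocnt G (orderOf g) ∈ (↑T : Set ℕ) := h ▸ ⟨orderOf g, ⟨g, rfl⟩, rfl⟩
      exact Or.inr (by simpa using this)
  · have : c ∈ (↑T : Set ℕ) := by simpa using hc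
    rw [← h] at this
    obtain ⟨m, -, hm⟩ := this
    exact ⟨m, hm⟩

theorem Vals.totient_dvd {T : Finset ℕ} (_V : Vals G T) {m : ℕ} (c : ℕ) (h : ocnt G m = c) : m.totient ∣ c :=
  h ▸ totient_dvd_ocnt m

theorem le_two_of_odd_count {m : ℕ} (h : Odd (ocnt G m)) : m ≤ 2 := by
  by_contra hm
  have h1 := Nat.totient_even (show 2 < m by omega)
  have h2 := (even_iff_two_dvd.1 h1).trans (totient_dvd_ocnt (G := G) m)
  exact Nat.not_even_iff_odd.2 h (even_iff_two_dvd.2 h2)

theorem ocnt_two_eq {T : Finset ℕ} (V : Vals G T) {c : ℕ} (hc : c ∈ T) (hodd : Odd c) (h1 : c ≠ 1) :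
    ocnt G 2 = c := by
  obtain ⟨m, hm⟩ := V.ex c hc
  have hle := le_two_of_odd_count (G := G) (m := m) (hm.symm ▸ hodd)
  rcases m with _ | _ | _ | m
  · exfalso
    obtain ⟨g, hg⟩ := exists_of_ocnt_ne_zero (G := G) (m := 0) (by rw [hm]; rintro rfl; simp at hodd)
    exact (orderOf_pos g).ne' hg
  · rw [ocnt_one] at hm; exact absurd hm.symm h1
  · exact hm
  · omega

/-- The distinct counts are attained at distinct orders. -/
theorem Vals.sum_le {T : Finset ℕ} (V : Vals G T) : ∑ c ∈ T, c ≤ Nat.card G := by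
  classical
  choose f hf using V.ex
  refine le_trans (le_of_eq ?_) (sum_le_card (T.attach.image fun c => f c.1 c.2))
  rw [Finset.sum_image, ← Finset.sum_attach]
  · exact Finset.sum_congr rfl fun c _ => (hf c.1 c.2).symm
  · intro a _ b _ h
    exact Subtype.ext ((hf a.1 a.2).symm.trans ((congrArg (ocnt G) h).trans (hf b.1 b.2)))

theorem factorization_eq_zero_of_not_dvd {n p : ℕ} (h : ¬ p ∣ n) : n.factorization p = 0 :=
  Nat.factorization_eq_zero_of_not_dvd h

theorem card_four_pow (G : Type*) [Group G] [Finite G] {q : ℕ}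
    (hp : ∀ p, p.Prime → p ∣ Nat.card G → p = 2 ∨ p = q) (hq : q.Prime) (hq2 : q ≠ 2) :
    Nat.card G = 2 ^ (Nat.card G).factorization 2 * q ^ (Nat.card G).factorization q := by
  refine Nat.eq_of_factorization_eq Nat.card_pos.ne'
    (Nat.mul_ne_zero (pow_ne_zero _ two_ne_zero) (pow_ne_zero _ hq.ne_zero)) fun p => ?_
  rw [Nat.factorization_mul (pow_ne_zero _ two_ne_zero) (pow_ne_zero _ hq.ne_zero), Nat.factorization_pow,
    Nat.factorization_pow, Finsupp.add_apply, Finsupp.smul_apply, Finsupp.smul_apply, smul_eq_mul, smul_eq_mul,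
    Nat.prime_two.factorization, hq.factorization]
  by_cases h2 : p = 2
  · subst h2; simp [Finsupp.single_eq_of_ne, hq2.symm]
  by_cases h3 : p = q
  · subst h3; simp [Finsupp.single_eq_of_ne, h2]
  simp only [Finsupp.single_eq_of_ne h2, Finsupp.single_eq_of_ne h3, mul_zero, add_zero]
  by_cases hpp : p.Prime
  · exact Nat.factorization_eq_zero_of_not_dvd fun h => by rcases hp p hpp h with h' | h' <;> contradiction
  · exact Nat.factorization_eq_zero_of_not_prime _ hpp

theorem alt_four_of_vals (V : Vals G {1, 3, 8}) : Nonempty (G ≃* alternatingGroup (Fin 4)) := by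
  have val : ∀ m, ocnt G m = 0 ∨ ocnt G m = 1 ∨ ocnt G m = 3 ∨ ocnt G m = 8 := fun m => by
    simpa using V.mem m
  have tot : ∀ m, m.totient ∣ ocnt G m := totient_dvd_ocnt
  have h2 : ocnt G 2 = 3 := ocnt_two_eq V (by simp) (by decide) (by decide)
  have hpos : ∀ p, p.Prime → p ∣ Nat.card G → p ≠ 2 → ocnt G p = 8 := by
    intro p hp hd h2'
    have h0 := ocnt_ne_zero_of_prime hp hd
    rcases val p with h | h | h | h
    · exact absurd h h0
    · have := le_two_of_odd_count (G := G) (m := p) (by rw [h]; decide)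
      have := hp.two_le; omega
    · have := le_two_of_odd_count (G := G) (m := p) (by rw [h]; decide)
      have := hp.two_le; omega
    · exact h
  have hprimes : ∀ p, p.Prime → p ∣ Nat.card G → p = 2 ∨ p = 3 := by
    intro p hp hd
    by_cases h2' : p = 2
    · exact Or.inl h2'
    have h8 := prime_dvd_succ hp hd
    rw [hpos p hp hd h2'] at h8
    exact Or.inr ((Nat.prime_dvd_prime_iff_eq hp Nat.prime_three).1 (hp.dvd_of_dvd_pow (show p ∣ 3 ^ 2 from h8)))
  have even : ∀ m, 2 < m → ocnt G m = 0 ∨ ocnt G m = 8 := by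
    intro m hm
    rcases val m with h | h | h | h
    · exact Or.inl h
    · have := le_two_of_odd_count (G := G) (m := m) (by rw [h]; decide); omega
    · have := le_two_of_odd_count (G := G) (m := m) (by rw [h]; decide); omega
    · exact Or.inr h
  have vanish : ∀ m, 2 < m → ¬ m.totient ∣ 8 → ocnt G m = 0 := by
    intro m hm hn
    rcases even m hm with h | h
    · exact h
    · exact absurd (h ▸ tot m) hn
  obtain ⟨a, hadef⟩ : ∃ a, (Nat.card G).factorization 2 = a := ⟨_, rfl⟩
  obtain ⟨b, hbdef⟩ : ∃ b, (Nat.card G).factorization 3 = b := ⟨_, rfl⟩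
  have hG : Nat.card G = 2 ^ a * 3 ^ b := by
    rw [← hadef, ← hbdef]; exact card_four_pow G hprimes Nat.prime_three (by decide)
  have ha : a ≤ 2 := by
    by_contra hlt
    have hd : 2 ^ 3 ∣ Nat.card G := (pow_dvd_pow 2 (show 3 ≤ a by omega)).trans (hG ▸ dvd_mul_right _ _)
    have hs := dvd_sum_pow (G := G) (k := a) Nat.prime_two (hG ▸ dvd_mul_right _ _)
    -- beyond sixteen there are no two-elements
    have h32 : ocnt G 32 = 0 := vanish 32 (by norm_num) (by decide)
    have hsum : ∑ i ∈ Finset.range (a + 1), ocnt G (2 ^ i) = ∑ i ∈ Finset.range 5, ocnt G (2 ^ i) ∨ a < 4 := by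
      by_cases h4 : a < 4
      · exact Or.inr h4
      refine Or.inl (Finset.sum_subset (Finset.range_mono (by omega)) fun i _ hi => ?_).symm
      rw [Finset.mem_range, not_lt] at hi
      exact ocnt_eq_zero_of_dvd (pow_dvd_pow 2 hi) h32
    have h8 := (pow_dvd_pow 2 (show 3 ≤ a by omega)).trans hs
    rcases hsum with h | h
    · rw [h, Finset.sum_range_succ, Finset.sum_range_succ, Finset.sum_range_succ, Finset.sum_range_succ,
        Finset.sum_range_one, pow_zero, pow_one, ocnt_one, h2] at h8
      have := even (2 ^ 2) (by norm_num); have := even (2 ^ 3) (by norm_num); have := even (2 ^ 4) (by norm_num)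
      omega
    · rw [show a + 1 = 4 by omega, Finset.sum_range_succ, Finset.sum_range_succ, Finset.sum_range_succ,
        Finset.sum_range_one, pow_zero, pow_one, ocnt_one, h2] at h8
      have := even (2 ^ 2) (by norm_num); have := even (2 ^ 3) (by norm_num)
      omega
  have h9 : ocnt G 9 = 0 := vanish 9 (by norm_num) (by decide)
  have hb : b ≤ 2 := by
    by_contra hlt
    have hs := (pow_dvd_pow 3 (show 3 ≤ b by omega)).trans
      (dvd_sum_pow (G := G) (k := b) Nat.prime_three (hG ▸ dvd_mul_left _ _))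
    have hsum : ∑ i ∈ Finset.range (b + 1), ocnt G (3 ^ i) = ∑ i ∈ Finset.range 2, ocnt G (3 ^ i) := by
      refine (Finset.sum_subset (Finset.range_mono (by omega)) fun i _ hi => ?_).symm
      rw [Finset.mem_range, not_lt] at hi
      exact ocnt_eq_zero_of_dvd (pow_dvd_pow 3 hi) h9
    rw [hsum, Finset.sum_range_succ, Finset.sum_range_one, pow_zero, pow_one, ocnt_one] at hs
    have := even 3 (by norm_num)
    omega
  have hlow := V.sum_le
  have hlow' : 12 ≤ Nat.card G := le_trans (by decide) hlow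
  have horders : ∀ g : G, orderOf g ∈ (Nat.card G).divisors := fun g =>
    Nat.mem_divisors.2 ⟨orderOf_dvd_natCard g, Nat.card_pos.ne'⟩
  have hsumG := card_eq_sum horders
  have h18 : ocnt G 18 = 0 := ocnt_eq_zero_of_dvd (show 9 ∣ 18 by norm_num) h9
  have h36 : ocnt G 36 = 0 := ocnt_eq_zero_of_dvd (show 9 ∣ 36 by norm_num) h9
  have h12 : Nat.card G = 12 := by
    interval_cases a <;> interval_cases b <;> norm_num at hG <;> try omega
    · rw [hG, show (18 : ℕ).divisors = {1, 2, 3, 6, 9, 18} by decide] at hsumG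
      simp [ocnt_one, h2, h9, h18] at hsumG
      have := hpos 3 Nat.prime_three (by rw [hG]; norm_num) (by norm_num)
      have := even 6 (by norm_num)
      omega
    · rw [hG, show (36 : ℕ).divisors = {1, 2, 3, 4, 6, 9, 12, 18, 36} by decide] at hsumG
      simp [ocnt_one, h2, h9, h18, h36] at hsumG
      have := hpos 3 Nat.prime_three (by rw [hG]; norm_num) (by norm_num)
      have := even 4 (by norm_num); have := even 6 (by norm_num); have := even 12 (by norm_num)
      have h4 : ocnt G 4 = 8 := by omega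
      have hfac : (Nat.card G).factorization 2 = 2 := hadef
      have hd := ccnt_sylow_dvd (G := G) Nat.prime_two hfac (by norm_num [h4])
      have he := ocnt_eq_mul (G := G) 4
      rw [h4, show Nat.totient 4 = 2 by decide] at he
      norm_num [show ccnt G 4 = 4 by omega, hG] at hd
  haveI : Fact (Nat.Prime 3) := ⟨Nat.prime_three⟩
  obtain ⟨x, hx⟩ := exists_prime_orderOf_dvd_card' 3 (show 3 ∣ Nat.card G by rw [h12]; norm_num)
  refine CfsgLib.Perm.Dickson.mulEquiv_a4 h12 (T := Subgroup.zpowers x) (by rw [Nat.card_zpowers, hx]) ?_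
  intro hN
  haveI := hN
  have hall : ∀ y : G, orderOf y = 3 → y ∈ Subgroup.zpowers x := by
    intro y hy
    have hy' : (QuotientGroup.mk' (Subgroup.zpowers x) y) = 1 := by
      rw [← orderOf_eq_one_iff]
      refine Nat.eq_one_of_dvd_coprimes (show Nat.Coprime 3 4 by decide) (hy ▸ orderOf_map_dvd _ y) ?_
      have := orderOf_dvd_natCard (QuotientGroup.mk' (Subgroup.zpowers x) y)
      have h := (Subgroup.zpowers x).card_mul_index
      rw [Nat.card_zpowers, hx, h12] at h
      rwa [show Nat.card (G ⧸ Subgroup.zpowers x) = 4 by rw [← Subgroup.index_eq_card]; omega] at this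
    exact (QuotientGroup.eq_one_iff y).1 hy'
  have hle : ocnt G 3 ≤ Nat.card ↥(Subgroup.zpowers x) :=
    Nat.card_le_card_of_injective (fun y => (⟨y.1, hall y.1 y.2⟩ : ↥(Subgroup.zpowers x)))
      fun a b h => Subtype.ext (congrArg (fun z : ↥(Subgroup.zpowers x) => z.1) h)
  rw [Nat.card_zpowers, hx, hpos 3 Nat.prime_three (by rw [h12]; norm_num) (by norm_num)] at hle
  omega

end CfsgLib.Char.SameCounts
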