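import Cfsg.Agent.Lib.Char.SameCounts.AltFive

/-!
A group with the same-order counts of the alternating group of degree six has order 360 and element orders at
most five.
-/

set_option autoImplicit false
set_option maxRecDepth 8000

namespace CfsgLib.Char.SameCounts

universe u

variable {G : Type u} [Group G] [Finite G]

theorem alt_six_facts (V : Vals G {1, 45, 80, 90, 144}) :
    Nat.card G = 360 ∧ ocnt G 3 = 80 ∧ ocnt G 5 = 144 ∧ (∀ g : G, orderOf g ≤ 5) := by
  have val : ∀ m, ocnt G m = 0 ∨ ocnt G m = 1 ∨ ocnt G m = 45 ∨ ocnt G m = 80 ∨ ocnt G m = 90 ∨ ocnt G m = 144 :=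
    fun m => by simpa using V.mem m
  have h2 : ocnt G 2 = 45 := ocnt_two_eq V (by simp) (by decide) (by decide)
  have h1 : ocnt G 1 = 1 := ocnt_one
  have hcnt : ∀ m, ocnt G m = m.totient * ccnt G m := ocnt_eq_mul
  have hne := Nat.card_pos (α := G)
  -- the values above two, cut down by the totient
  have big : ∀ m, 2 < m → ocnt G m = 0 ∨ ocnt G m = 80 ∧ m.totient ∣ 80 ∨ ocnt G m = 90 ∧ m.totient ∣ 90 ∨
      ocnt G m = 144 ∧ m.totient ∣ 144 := by
    intro m hm
    have ht := totient_dvd_ocnt (G := G) m
    rcases val m with h | h | h | h | h | h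
    · exact Or.inl h
    · have := le_two_of_odd_count (G := G) (m := m) (by rw [h]; decide); omega
    · have := le_two_of_odd_count (G := G) (m := m) (by rw [h]; decide); omega
    · exact Or.inr (Or.inl ⟨h, h ▸ ht⟩)
    · exact Or.inr (Or.inr (Or.inl ⟨h, h ▸ ht⟩))
    · exact Or.inr (Or.inr (Or.inr ⟨h, h ▸ ht⟩))
  have b4 := big 4 (by norm_num)
  have b8 := big 8 (by norm_num)
  have b16 := big 16 (by norm_num)
  have b32 := big 32 (by norm_num)
  have b64 := big 64 (by norm_num)
  rw [show Nat.totient 4 = 2 by decide] at b4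
  rw [show Nat.totient 8 = 4 by decide] at b8
  rw [show Nat.totient 16 = 8 by decide] at b16
  rw [show Nat.totient 32 = 16 by decide] at b32
  rw [show Nat.totient 64 = 32 by decide] at b64
  norm_num at b4 b8 b16 b32 b64
  -- the primes
  have hprimes : ∀ p, p.Prime → p ∣ Nat.card G → p = 2 ∨ p = 3 ∨ p = 5 ∨ p = 7 := by
    intro p hp hd
    by_cases h2' : p = 2
    · exact Or.inl h2'
    have hp2 := hp.two_le
    have h0 := ocnt_ne_zero_of_prime hp hd
    have h8 := prime_dvd_succ hp hd
    rcases big p (by omega) with h | ⟨h, -⟩ | ⟨h, ht⟩ | ⟨h, ht⟩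
    · exact absurd h h0
    · rw [h] at h8
      exact Or.inr (Or.inl ((Nat.prime_dvd_prime_iff_eq hp Nat.prime_three).1 (hp.dvd_of_dvd_pow (show p ∣ 3 ^ 4 from h8))))
    · rw [h] at h8
      rw [Nat.totient_prime hp] at ht
      rcases (hp.dvd_mul.1 (show p ∣ 7 * 13 from h8)) with h' | h'
      · exact Or.inr (Or.inr (Or.inr ((Nat.prime_dvd_prime_iff_eq hp (by norm_num)).1 h')))
      · rw [(Nat.prime_dvd_prime_iff_eq hp (by norm_num)).1 h'] at ht
        norm_num at ht
    · rw [h] at h8
      rw [Nat.totient_prime hp] at ht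
      rcases (hp.dvd_mul.1 (show p ∣ 5 * 29 from h8)) with h' | h'
      · exact Or.inr (Or.inr (Or.inl ((Nat.prime_dvd_prime_iff_eq hp Nat.prime_five).1 h')))
      · rw [(Nat.prime_dvd_prime_iff_eq hp (by norm_num)).1 h'] at ht
        norm_num at ht
  have c3 : 3 ∣ Nat.card G → ocnt G 3 = 80 := by
    intro hd
    have h0 := ocnt_ne_zero_of_prime Nat.prime_three hd
    have h8 := prime_dvd_succ Nat.prime_three hd
    have h := big 3 (by norm_num)
    omega
  have c5 : 5 ∣ Nat.card G → ocnt G 5 = 144 := by
    intro hd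
    have h0 := ocnt_ne_zero_of_prime Nat.prime_five hd
    have h8 := prime_dvd_succ Nat.prime_five hd
    have h := big 5 (by norm_num)
    omega
  have c7 : 7 ∣ Nat.card G → ocnt G 7 = 90 := by
    intro hd
    have h0 := ocnt_ne_zero_of_prime (by norm_num) hd
    have h8 := prime_dvd_succ (by norm_num) hd
    have h := big 7 (by norm_num)
    omega
  -- the five-part
  have h25 : ¬ 25 ∣ Nat.card G := by
    intro hd
    have hd5 : 5 ∣ Nat.card G := (show 5 ∣ 25 by norm_num).trans hd
    have b25 := big 25 (by norm_num)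
    have b125 := big 125 (by norm_num)
    rw [show Nat.totient 25 = 20 by decide] at b25
    rw [show Nat.totient 125 = 100 by decide] at b125
    norm_num at b25 b125
    have hs := dvd_sum_pow (G := G) (k := 2) Nat.prime_five hd
    simp only [Finset.sum_range_succ, Finset.sum_range_zero, pow_zero, pow_one, zero_add, h1, c5 hd5] at hs
    norm_num at hs
    have h125 : ¬ 125 ∣ Nat.card G := by
      intro hd'
      have hs' := dvd_sum_pow (G := G) (k := 3) Nat.prime_five hd'
      simp only [Finset.sum_range_succ, Finset.sum_range_zero, pow_zero, pow_one, zero_add, h1, c5 hd5] at hs'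
      norm_num at hs'
      omega
    have h80 : ocnt G 25 = 80 := by omega
    have hle := ccnt_le_of_cyclic_sylow (G := G) (p := 5) (a := 2) (i := 1) Nat.prime_five
      (factorization_eq_of hne.ne' Nat.prime_five hd h125) (by norm_num [h80]) (by norm_num)
    have e5 := hcnt 5
    have e25 := hcnt 25
    rw [c5 hd5, show Nat.totient 5 = 4 by decide] at e5
    rw [h80, show Nat.totient 25 = 20 by decide] at e25
    norm_num at hle
    omega
  -- seven does not divide the order
  have h7 : ¬ 7 ∣ Nat.card G := by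
    intro hd
    have h49 : ¬ 7 ^ 2 ∣ Nat.card G := by
      intro hd'
      have hs := dvd_sum_pow (G := G) (k := 2) (by norm_num : Nat.Prime 7) hd'
      simp only [Finset.sum_range_succ, Finset.sum_range_zero, pow_zero, pow_one, zero_add, h1, c7 hd] at hs
      have b49 := big 49 (by norm_num)
      rw [show Nat.totient 49 = 42 by decide] at b49
      norm_num at b49 hs
      omega
    have h15 := ccnt_prime_mul_dvd (by norm_num : Nat.Prime 7) hd h49
    have e7 := hcnt 7
    rw [c7 hd, show Nat.totient 7 = 6 by decide] at e7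
    rw [show ccnt G 7 = 15 by omega] at h15
    have hd5 : 5 ∣ Nat.card G := (show 5 ∣ 15 * 7 by norm_num).trans h15
    have h36 := ccnt_prime_mul_dvd Nat.prime_five hd5 (by norm_num; exact h25)
    have e5 := hcnt 5
    rw [c5 hd5, show Nat.totient 5 = 4 by decide] at e5
    rw [show ccnt G 5 = 36 by omega] at h36
    have hdiv : 7 ∣ Nat.card G / ccnt G 5 := by
      rw [show ccnt G 5 = 36 by omega]
      have hh : 36 * 7 ∣ Nat.card G :=
        Nat.Coprime.mul_dvd_of_dvd_of_dvd (by norm_num) ((dvd_mul_right 36 5).trans h36) hd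
      obtain ⟨c, hc⟩ := hh
      rw [hc, mul_assoc, Nat.mul_div_cancel_left _ (by norm_num)]
      exact dvd_mul_right _ _
    have h35 := exists_order_mul_of_div (p := 5) (q := 7) Nat.prime_five (by norm_num) (by norm_num) (by norm_num)
      (by norm_num; exact h25) hd5 hdiv
    have hle := ccnt_prime_le (G := G) (n := 35) (p := 7) (by norm_num) h49 (by norm_num) h35
    have b35 := big 35 (by norm_num)
    have e35 := hcnt 35
    rw [show Nat.totient 35 = 24 by decide] at b35 e35
    norm_num at b35
    omega
  -- the two-part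
  obtain ⟨a, hadef⟩ : ∃ a, (Nat.card G).factorization 2 = a := ⟨_, rfl⟩
  obtain ⟨b, hbdef⟩ : ∃ b, (Nat.card G).factorization 3 = b := ⟨_, rfl⟩
  have hda : 2 ^ a ∣ Nat.card G := hadef ▸ Nat.ordProj_dvd _ _
  have hdb : 3 ^ b ∣ Nat.card G := hbdef ▸ Nat.ordProj_dvd _ _
  have hfac2 : ∀ k, ocnt G (2 ^ k) ≠ 0 → k ≤ a := fun k hk =>
    hadef ▸ (Nat.prime_two.pow_dvd_iff_le_factorization hne.ne').1 (dvd_card_of_ocnt hk)
  have hfac3 : ∀ k, ocnt G (3 ^ k) ≠ 0 → k ≤ b := fun k hk =>
    hbdef ▸ (Nat.prime_three.pow_dvd_iff_le_factorization hne.ne').1 (dvd_card_of_ocnt hk)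
  have hsum2 : 2 ^ a ∣ 46 + ocnt G 4 + ocnt G 8 + ocnt G 16 + ocnt G 32 ∨ a ≤ 4 := by
    by_cases h4 : a ≤ 4
    · exact Or.inr h4
    left
    have hs := dvd_sum_pow (G := G) (k := a) Nat.prime_two hda
    have hsum : ∑ i ∈ Finset.range (a + 1), ocnt G (2 ^ i) = ∑ i ∈ Finset.range 6, ocnt G (2 ^ i) := by
      refine (Finset.sum_subset (Finset.range_mono (by omega)) fun i _ hi => ?_).symm
      rw [Finset.mem_range, not_lt] at hi
      exact ocnt_eq_zero_of_dvd (pow_dvd_pow 2 hi) b64
    rw [hsum] at hs
    simp only [Finset.sum_range_succ, Finset.sum_range_zero, pow_zero, pow_one, zero_add, h1, h2] at hs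
    norm_num at hs
    convert hs using 1
  have z4 : a < 2 → ocnt G 4 = 0 := fun h => by
    by_contra h0; have := hfac2 2 h0; omega
  have z8 : a < 3 → ocnt G 8 = 0 := fun h => by
    by_contra h0; have := hfac2 3 h0; omega
  have z16 : a < 4 → ocnt G 16 = 0 := fun h => by
    by_contra h0; have := hfac2 4 h0; omega
  have z32 : a < 5 → ocnt G 32 = 0 := fun h => by
    by_contra h0; have := hfac2 5 h0; omega
  have ha : a ≤ 3 := by
    by_contra hlt
    rcases hsum2 with h | h
    · have h5 := (pow_dvd_pow 2 (show 4 ≤ a by omega)).trans h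
      norm_num at h5
      omega
    · have hs := dvd_sum_pow (G := G) (k := a) Nat.prime_two hda
      rw [show a = 4 by omega] at hs
      simp only [Finset.sum_range_succ, Finset.sum_range_zero, pow_zero, pow_one, zero_add, h1, h2] at hs
      norm_num at hs
      omega
  have h4val : 2 ≤ a → ocnt G 4 = 90 := by
    intro h2a
    have hs := dvd_sum_pow (G := G) (k := a) Nat.prime_two hda
    interval_cases a <;>
      simp only [Finset.sum_range_succ, Finset.sum_range_zero, pow_zero, pow_one, zero_add, h1, h2] at hs <;>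
      norm_num at hs <;> omega
  -- the three-part
  have b9 := big 9 (by norm_num)
  have b27 := big 27 (by norm_num)
  have b81 := big 81 (by norm_num)
  rw [show Nat.totient 9 = 6 by decide] at b9
  rw [show Nat.totient 27 = 18 by decide] at b27
  rw [show Nat.totient 81 = 54 by decide] at b81
  norm_num at b9 b27 b81
  have hb : b ≤ 4 := by
    by_contra hlt
    have hs := (pow_dvd_pow 3 (show 5 ≤ b by omega)).trans (dvd_sum_pow (G := G) (k := b) Nat.prime_three hdb)
    have hsum : ∑ i ∈ Finset.range (b + 1), ocnt G (3 ^ i) = ∑ i ∈ Finset.range 4, ocnt G (3 ^ i) := by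
      refine (Finset.sum_subset (Finset.range_mono (by omega)) fun i _ hi => ?_).symm
      rw [Finset.mem_range, not_lt] at hi
      exact ocnt_eq_zero_of_dvd (pow_dvd_pow 3 hi) b81
    rw [hsum] at hs
    simp only [Finset.sum_range_succ, Finset.sum_range_zero, pow_zero, pow_one, zero_add, h1,
      c3 ((dvd_pow_self 3 (show b ≠ 0 by omega)).trans hdb)] at hs
    norm_num at hs
    omega
  have h9val : 3 ≤ b → ocnt G 9 = 0 ∧ ocnt G 27 = 0 ∨ b = 3 ∧ 27 ∣ 81 + ocnt G 9 + ocnt G 27 := by
    intro h3b
    have hd3 : 3 ∣ Nat.card G := (dvd_pow_self 3 (show b ≠ 0 by omega)).trans hdb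
    have hs := dvd_sum_pow (G := G) (k := b) Nat.prime_three hdb
    interval_cases b <;>
      simp only [Finset.sum_range_succ, Finset.sum_range_zero, pow_zero, pow_one, zero_add, h1, c3 hd3] at hs <;>
      norm_num at hs <;> omega
  have hfactor : Nat.card G = 2 ^ a * 3 ^ b * 5 ^ (Nat.card G).factorization 5 := by
    refine Nat.eq_of_factorization_eq hne.ne' (by positivity) fun p => ?_
    rw [Nat.factorization_mul (by positivity) (by positivity), Nat.factorization_mul (by positivity) (by positivity),
      Finsupp.add_apply, Finsupp.add_apply, Nat.prime_two.factorization_pow, Nat.prime_three.factorization_pow,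
      Nat.prime_five.factorization_pow]
    by_cases h : p = 2
    · subst h; simp [hadef]
    by_cases h3' : p = 3
    · subst h3'; simp [hbdef]
    by_cases h5' : p = 5
    · subst h5'; simp
    simp only [Finsupp.single_eq_of_ne h, Finsupp.single_eq_of_ne h3', Finsupp.single_eq_of_ne h5', add_zero]
    by_cases hp : p.Prime
    · refine Nat.factorization_eq_zero_of_not_dvd fun hd' => ?_
      rcases hprimes p hp hd' with rfl | rfl | rfl | rfl <;> contradiction
    · exact Nat.factorization_eq_zero_of_not_prime _ hp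
  have hlow : 360 ≤ Nat.card G := le_trans (by decide) V.sum_le
  -- five divides the order
  have hfive : 5 ∣ Nat.card G := by
    by_contra hno
    rw [Nat.factorization_eq_zero_of_not_dvd hno, pow_zero, mul_one] at hfactor
    have hab : a = 3 ∧ b = 4 := by
      interval_cases a <;> interval_cases b <;> norm_num at hfactor <;> omega
    obtain ⟨rfl, rfl⟩ := hab
    norm_num at hfactor
    have hz : ocnt G 9 = 0 := by
      rcases h9val (by norm_num) with h | h
      · exact h.1
      · omega
    have horders : ∀ g : G, orderOf g ∈ ({1, 2, 3, 4, 8, 6, 12, 24} : Finset ℕ) := by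
      intro g
      have hdg := orderOf_dvd_natCard g
      rw [hfactor, show (648 : ℕ) = 2 ^ 3 * 3 ^ 4 by norm_num] at hdg
      obtain ⟨d, e, hd', he', hde⟩ := Nat.dvd_mul.1 hdg
      obtain ⟨i, hi, rfl⟩ := (Nat.dvd_prime_pow Nat.prime_two).1 hd'
      obtain ⟨j, hj, rfl⟩ := (Nat.dvd_prime_pow Nat.prime_three).1 he'
      have hne0 := (ocnt_pos (G := G) hde.symm).ne'
      have hj1 : j ≤ 1 := by
        by_contra hj1
        exact hne0 (ocnt_eq_zero_of_dvd (dvd_mul_of_dvd_right (pow_dvd_pow 3 (show 2 ≤ j by omega)) _) hz)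
      rw [← hde]
      interval_cases i <;> interval_cases j <;> simp
    have htot := card_eq_sum horders
    simp [h1, h2, c3 (by rw [hfactor]; norm_num), h4val (by norm_num), hfactor] at htot
    have b6 := big 6 (by norm_num)
    have b12 := big 12 (by norm_num)
    have b24 := big 24 (by norm_num)
    rw [show Nat.totient 6 = 2 by decide] at b6
    rw [show Nat.totient 12 = 4 by decide] at b12
    rw [show Nat.totient 24 = 8 by decide] at b24
    norm_num at b6 b12 b24
    have h24 : ocnt G 8 = 0 → ocnt G 24 = 0 := ocnt_eq_zero_of_dvd (by norm_num)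
    have h8 : ocnt G 8 = 144 := by omega
    have hd := ccnt_sylow_dvd (G := G) Nat.prime_two hadef (by norm_num [h8])
    have e8 := hcnt 8
    rw [h8, show Nat.totient 8 = 4 by decide] at e8
    norm_num [show ccnt G 8 = 36 by omega, hfactor] at hd
  have hh5 := c5 hfive
  have h36 := ccnt_prime_mul_dvd Nat.prime_five hfive (by norm_num; exact h25)
  have e5 := hcnt 5
  rw [hh5, show Nat.totient 5 = 4 by decide] at e5
  rw [show ccnt G 5 = 36 by omega] at h36
  rw [factorization_eq_of hne.ne' Nat.prime_five (k := 1) (by simpa using hfive) h25, pow_one] at hfactor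
  have hd3 : 3 ∣ Nat.card G := (show 3 ∣ 36 * 5 by norm_num).trans h36
  have hh3 := c3 hd3
  have z15 : ocnt G 15 = 0 := by
    by_contra h
    have hle := ccnt_prime_le (G := G) (n := 15) Nat.prime_five (by norm_num; exact h25) (by norm_num) h
    have h' := big 15 (by norm_num)
    have e := hcnt 15
    rw [show Nat.totient 15 = 8 by decide] at e h'
    norm_num at h'
    omega
  have hb2 : b = 2 := by
    have hlo : 2 ≤ b := hbdef ▸ (Nat.prime_three.pow_dvd_iff_le_factorization hne.ne').1
      ((show 3 ^ 2 ∣ 36 * 5 by norm_num).trans h36)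
    by_contra hb2
    have hh : 36 * 3 ∣ Nat.card G := by
      have h4 : 4 ∣ Nat.card G := (show 4 ∣ 36 * 5 by norm_num).trans h36
      have h27 : 27 ∣ Nat.card G := (pow_dvd_pow 3 (show 3 ≤ b by omega)).trans hdb
      rw [show 36 * 3 = 4 * 27 by norm_num]
      exact Nat.Coprime.mul_dvd_of_dvd_of_dvd (by norm_num) h4 h27
    refine exists_order_mul_of_div (p := 5) (q := 3) Nat.prime_five Nat.prime_three (by norm_num) (by norm_num)
      (by norm_num; exact h25) hfive ?_ z15
    rw [show ccnt G 5 = 36 by omega]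
    obtain ⟨c, hc⟩ := hh
    rw [hc, mul_assoc, Nat.mul_div_cancel_left _ (by norm_num)]
    exact dvd_mul_right _ _
  have ha3 : a = 3 := by
    subst hb2
    interval_cases a <;> norm_num at hfactor <;> omega
  subst ha3 hb2
  norm_num at hfactor
  refine ⟨hfactor, hh3, hh5, fun g => ?_⟩
  by_contra hg
  have hsum := sum_le_card (G := G) {1, 2, 3, 4, 5, orderOf g}
  have hpos := ocnt_pos (rfl : orderOf g = orderOf g)
  rw [Finset.sum_insert (by simp; omega), Finset.sum_insert (by simp; omega), Finset.sum_insert (by simp; omega),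
    Finset.sum_insert (by simp; omega), Finset.sum_insert (by simp; omega), Finset.sum_singleton, h1, h2, hh3,
    h4val (by norm_num), hh5, hfactor] at hsum
  omega

end CfsgLib.Char.SameCounts
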