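import Mathlib
import Cfsg.Agent.Lib.PGroup.FrobeniusCount
import Cfsg.Agent.Lib.PGroup.MillerCount

/-!
Elementary facts on the numbers of elements of given order in a finite group.
-/

set_option autoImplicit false

open Subgroup

namespace CfsgLib.Char.SameCounts

universe u

variable {G : Type u} [Group G] [Finite G]

/-- The number of elements of order `m`. -/
noncomputable def ocnt (G : Type*) [Group G] (m : ℕ) : ℕ := Nat.card {g : G // orderOf g = m}

theorem ocnt_pos {g : G} {m : ℕ} (h : orderOf g = m) : 0 < ocnt G m :=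
  haveI : Nonempty {g : G // orderOf g = m} := ⟨⟨g, h⟩⟩
  Nat.card_pos

theorem exists_of_ocnt_ne_zero {m : ℕ} (h : ocnt G m ≠ 0) : ∃ g : G, orderOf g = m := by
  by_contra hno
  push Not at hno
  haveI : IsEmpty {g : G // orderOf g = m} := ⟨fun g => hno g.1 g.2⟩
  exact h Nat.card_of_isEmpty

theorem exists_of_dvd {m : ℕ} (g : G) (h : m ∣ orderOf g) : ∃ x : G, orderOf x = m := by
  have h0 := orderOf_pos g
  refine ⟨g ^ (orderOf g / m), ?_⟩
  rw [orderOf_pow, Nat.gcd_eq_right (Nat.div_dvd_of_dvd h), Nat.div_div_self h h0.ne']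

theorem ocnt_eq_zero_of_dvd {d m : ℕ} (hdm : d ∣ m) (hd : ocnt G d = 0) : ocnt G m = 0 := by
  by_contra h
  obtain ⟨g, hg⟩ := exists_of_ocnt_ne_zero h
  obtain ⟨x, hx⟩ := exists_of_dvd g (hg ▸ hdm)
  exact (ocnt_pos hx).ne' hd

theorem ocnt_one : ocnt G 1 = 1 := by
  simp [ocnt, orderOf_eq_one_iff]

theorem totient_dvd_ocnt (m : ℕ) : m.totient ∣ ocnt G m := by
  rw [ocnt, CfsgLib.PGroup.Miller.card_orderOf_eq_mul]
  exact dvd_mul_right _ _

theorem dvd_card_of_ocnt {m : ℕ} (h : ocnt G m ≠ 0) : m ∣ Nat.card G := by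
  obtain ⟨g, rfl⟩ := exists_of_ocnt_ne_zero h
  exact orderOf_dvd_natCard g

theorem ocnt_ne_zero_of_prime {p : ℕ} (hp : p.Prime) (h : p ∣ Nat.card G) : ocnt G p ≠ 0 := by
  haveI := Fact.mk hp
  obtain ⟨g, hg⟩ := exists_prime_orderOf_dvd_card' p h
  exact (ocnt_pos hg).ne'

theorem card_solutions {n : ℕ} (hn : 0 < n) :
    Nat.card {g : G // g ^ n = 1} = ∑ d ∈ n.divisors, ocnt G d := by
  classical
  haveI := Fintype.ofFinite G
  rw [Nat.card_eq_fintype_card, Fintype.card_subtype]
  rw [Finset.card_eq_sum_card_fiberwise (f := orderOf) (t := n.divisors)]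
  · refine Finset.sum_congr rfl fun d hd => ?_
    rw [ocnt, Nat.card_eq_fintype_card, Fintype.card_subtype, Finset.filter_filter]
    congr 1
    refine Finset.filter_congr fun g _ => ⟨fun h => h.2, fun h => ⟨?_, h⟩⟩
    rw [← orderOf_dvd_iff_pow_eq_one, h]
    exact (Nat.mem_divisors.1 hd).1
  · intro g hg
    rw [Finset.mem_coe, Finset.mem_filter] at hg
    exact Nat.mem_divisors.2 ⟨orderOf_dvd_of_pow_eq_one hg.2, hn.ne'⟩

/-- Frobenius' theorem, in terms of the counts. -/
theorem dvd_sum_divisors {n : ℕ} (hn : n ∣ Nat.card G) : n ∣ ∑ d ∈ n.divisors, ocnt G d := by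
  rw [← card_solutions (Nat.pos_of_dvd_of_pos hn Nat.card_pos)]
  have h := CfsgLib.PGroup.hall_card_roots_aux _ G rfl n 1
  simp only [isConj_one_right] at h
  rw [Nat.card_unique, one_mul, Nat.gcd_eq_left hn] at h
  simpa [eq_comm] using h

theorem dvd_sum_pow {p k : ℕ} (hp : p.Prime) (h : p ^ k ∣ Nat.card G) :
    p ^ k ∣ ∑ i ∈ Finset.range (k + 1), ocnt G (p ^ i) := by
  have h' := dvd_sum_divisors h
  rwa [Nat.sum_divisors_prime_pow hp] at h'

theorem prime_dvd_succ {p : ℕ} (hp : p.Prime) (h : p ∣ Nat.card G) : p ∣ 1 + ocnt G p := by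
  have h' := dvd_sum_pow (k := 1) hp (by rwa [pow_one])
  rw [Finset.sum_range_succ, Finset.sum_range_one, pow_zero, pow_one, ocnt_one] at h'
  exact h'

/-- The group order is the sum of the counts over any set containing all the orders. -/
theorem card_eq_sum {D : Finset ℕ} (hD : ∀ g : G, orderOf g ∈ D) : Nat.card G = ∑ d ∈ D, ocnt G d := by
  classical
  haveI := Fintype.ofFinite G
  rw [Nat.card_eq_fintype_card, ← Finset.card_univ, Finset.card_eq_sum_card_fiberwise (f := orderOf) (t := D)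
    fun g _ => hD g]
  exact Finset.sum_congr rfl fun d _ => by rw [ocnt, Nat.card_eq_fintype_card, Fintype.card_subtype]

theorem sum_le_card (D : Finset ℕ) : ∑ d ∈ D, ocnt G d ≤ Nat.card G := by
  classical
  haveI := Fintype.ofFinite G
  rw [Nat.card_eq_fintype_card, ← Finset.card_univ]
  calc ∑ d ∈ D, ocnt G d = ∑ d ∈ D, (Finset.univ.filter fun g : G => orderOf g = d).card :=
        Finset.sum_congr rfl fun d _ => by rw [ocnt, Nat.card_eq_fintype_card, Fintype.card_subtype]
    _ = (Finset.univ.filter fun g : G => orderOf g ∈ D).card := by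
        rw [Finset.card_eq_sum_card_fiberwise (f := orderOf) (t := D) (s := Finset.univ.filter fun g : G => orderOf g ∈ D)
          fun g hg => (Finset.mem_filter.1 hg).2]
        refine Finset.sum_congr rfl fun d hd => ?_
        rw [Finset.filter_filter]
        exact congrArg Finset.card (Finset.filter_congr fun g _ => ⟨fun h => ⟨h ▸ hd, h⟩, fun h => h.2⟩)
    _ ≤ _ := Finset.card_le_univ _

/-- The number of cyclic subgroups of order `m`. -/
noncomputable def ccnt (G : Type*) [Group G] (m : ℕ) : ℕ :=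
  Nat.card {C : Subgroup G // IsCyclic C ∧ Nat.card C = m}

theorem ocnt_eq_mul (m : ℕ) : ocnt G m = m.totient * ccnt G m :=
  CfsgLib.PGroup.Miller.card_orderOf_eq_mul G m

theorem subgroup_eq_of_le_cyclic {D C C' : Subgroup G} [IsCyclic D] (h : C ≤ D) (h' : C' ≤ D)
    (hc : Nat.card C = Nat.card C') : C = C' := by
  classical
  haveI := Fintype.ofFinite G
  suffices key : ∀ C : Subgroup G, C ≤ D →
      (Finset.univ.filter fun x : ↥D => x.1 ∈ C) = Finset.univ.filter fun x : ↥D => x ^ Nat.card C = 1 by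
    have e : (Finset.univ.filter fun x : ↥D => x.1 ∈ C) = Finset.univ.filter fun x : ↥D => x.1 ∈ C' := by
      rw [key C h, key C' h', hc]
    ext x
    refine ⟨fun hx => ?_, fun hx => ?_⟩
    · have : (⟨x, h hx⟩ : ↥D) ∈ Finset.univ.filter fun x : ↥D => x.1 ∈ C := by simpa using hx
      rw [e] at this
      simpa using this
    · have : (⟨x, h' hx⟩ : ↥D) ∈ Finset.univ.filter fun x : ↥D => x.1 ∈ C' := by simpa using hx
      rw [← e] at this
      simpa using this
  intro C hC
  refine Finset.eq_of_subset_of_card_le (fun x hx => ?_) ?_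
  · rw [Finset.mem_filter] at hx ⊢
    refine ⟨hx.1, Subtype.ext ?_⟩
    rw [SubgroupClass.coe_pow]
    exact congrArg Subtype.val (pow_card_eq_one' (G := ↥C) (x := ⟨x.1, hx.2⟩))
  · refine (IsCyclic.card_pow_eq_one_le Nat.card_pos).trans (le_of_eq ?_)
    rw [← Fintype.card_subtype, ← Nat.card_eq_fintype_card]
    exact Nat.card_congr ⟨fun x => ⟨⟨x.1, hC x.2⟩, x.2⟩, fun x => ⟨x.1.1, x.2⟩, fun x => rfl, fun x => rfl⟩

/-- Cyclic subgroups covering the cyclic subgroups of a smaller order are at least as many. -/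
theorem ccnt_le_of_cover {d n : ℕ} (hdn : d ∣ n) (hn : 0 < n)
    (hcov : ∀ C : Subgroup G, IsCyclic C → Nat.card C = d →
      ∃ D : Subgroup G, IsCyclic D ∧ Nat.card D = n ∧ C ≤ D) : ccnt G d ≤ ccnt G n := by
  classical
  have hex : ∀ D : {D : Subgroup G // IsCyclic D ∧ Nat.card D = n},
      ∃ C : Subgroup G, IsCyclic C ∧ Nat.card C = d ∧ C ≤ D.1 := by
    intro D
    haveI := D.2.1
    obtain ⟨g, hg⟩ := IsCyclic.exists_ofOrder_eq_natCard (α := ↥D.1)
    obtain ⟨x, hx⟩ := exists_of_dvd g (hg.trans D.2.2 ▸ hdn)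
    exact ⟨zpowers x.1, inferInstance, by rw [Nat.card_zpowers, orderOf_coe, hx], zpowers_le.2 x.2⟩
  choose f hf1 hf2 hf3 using hex
  refine Nat.card_le_card_of_surjective (fun D => (⟨f D, hf1 D, hf2 D⟩ : {C : Subgroup G // IsCyclic C ∧ Nat.card C = d}))
    fun C => ?_
  obtain ⟨D, hD1, hD2, hCD⟩ := hcov C.1 C.2.1 C.2.2
  refine ⟨⟨D, hD1, hD2⟩, Subtype.ext ?_⟩
  haveI := hD1
  exact subgroup_eq_of_le_cyclic (hf3 ⟨D, hD1, hD2⟩) hCD ((hf2 _).trans C.2.2.symm)

theorem conj_cyclic {D : Subgroup G} (g : G) (hD : IsCyclic D) :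
    IsCyclic ↥(D.map (MulAut.conj g).toMonoidHom) :=
  isCyclic_of_surjective _ (D.equivMapOfInjective _ (MulAut.conj g).injective).surjective

/-- All subgroups of order `p` are Sylow, hence conjugate: cover by subgroups of order `n`. -/
theorem ccnt_prime_le {p n : ℕ} (hp : p.Prime) (hp2 : ¬ p ^ 2 ∣ Nat.card G) (hpn : p ∣ n)
    (hn : ocnt G n ≠ 0) : ccnt G p ≤ ccnt G n := by
  haveI := Fact.mk hp
  obtain ⟨g, hg⟩ := exists_of_ocnt_ne_zero hn
  refine ccnt_le_of_cover hpn (hg ▸ orderOf_pos g) fun C _ hC => ?_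
  obtain ⟨x, hxz, hx⟩ : ∃ x : G, x ∈ zpowers g ∧ orderOf x = p := by
    refine ⟨g ^ (n / p), pow_mem (mem_zpowers g) _, ?_⟩
    rw [orderOf_pow, hg, Nat.gcd_eq_right (Nat.div_dvd_of_dvd hpn), Nat.div_div_self hpn (hg ▸ (orderOf_pos g).ne')]
  have hone : (Nat.card G).factorization p = 1 := by
    refine le_antisymm ?_ ?_
    · by_contra h
      exact hp2 ((pow_dvd_pow p (show 2 ≤ (Nat.card G).factorization p by omega)).trans (Nat.ordProj_dvd _ _))
    · exact hp.factorization_pos_of_dvd Nat.card_pos.ne' (hC ▸ C.card_subgroup_dvd_card)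
  let P : Sylow p G := Sylow.ofCard C (by rw [hC, hone, pow_one])
  let Q : Sylow p G := Sylow.ofCard (zpowers x) (by rw [Nat.card_zpowers, hx, hone, pow_one])
  obtain ⟨c, hc⟩ := MulAction.exists_smul_eq G Q P
  refine ⟨(zpowers g).map (MulAut.conj c).toMonoidHom, conj_cyclic c inferInstance, ?_, ?_⟩
  · rw [card_map_of_injective (MulAut.conj c).injective, Nat.card_zpowers, hg]
  · intro y hy
    have hy' : y ∈ ((c • Q : Sylow p G) : Subgroup G) := by rw [hc]; exact hy
    rw [Sylow.coe_subgroup_smul, mem_pointwise_smul_iff_inv_smul_mem] at hy'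
    have hy'' : c⁻¹ * y * c ∈ zpowers x := by simpa [MulAut.smul_def, Q, Sylow.ofCard] using hy'
    exact ⟨c⁻¹ * y * c, zpowers_le.2 hxz hy'', by
      show c * (c⁻¹ * y * c) * c⁻¹ = y
      group⟩

/-- A cyclic Sylow subgroup covers the cyclic subgroups of smaller prime power order. -/
theorem ccnt_le_of_cyclic_sylow {p a i : ℕ} (hp : p.Prime) (ha : (Nat.card G).factorization p = a)
    (hn : ocnt G (p ^ a) ≠ 0) (hi : i ≤ a) : ccnt G (p ^ i) ≤ ccnt G (p ^ a) := by
  haveI := Fact.mk hp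
  obtain ⟨g, hg⟩ := exists_of_ocnt_ne_zero hn
  let Q : Sylow p G := Sylow.ofCard (zpowers g) (by rw [Nat.card_zpowers, hg, ha])
  refine ccnt_le_of_cover (pow_dvd_pow p hi) (pow_pos hp.pos a) fun C _ hC => ?_
  obtain ⟨P, hP⟩ := (IsPGroup.of_card hC).exists_le_sylow
  obtain ⟨c, hc⟩ := MulAction.exists_smul_eq G Q P
  refine ⟨(zpowers g).map (MulAut.conj c).toMonoidHom, conj_cyclic c inferInstance, ?_, ?_⟩
  · rw [card_map_of_injective (MulAut.conj c).injective, Nat.card_zpowers, hg]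
  · intro y hy
    have hy' : y ∈ ((c • Q : Sylow p G) : Subgroup G) := by rw [hc]; exact hP hy
    rw [Sylow.coe_subgroup_smul, mem_pointwise_smul_iff_inv_smul_mem] at hy'
    exact ⟨c⁻¹ * y * c, by simpa [MulAut.smul_def, Q, Sylow.ofCard] using hy', by
      show c * (c⁻¹ * y * c) * c⁻¹ = y
      group⟩

/-- The cyclic Sylow subgroups are counted by the Sylow number. -/
theorem ccnt_sylow_dvd {p a : ℕ} (hp : p.Prime) (ha : (Nat.card G).factorization p = a)
    (hn : ocnt G (p ^ a) ≠ 0) : ccnt G (p ^ a) * p ^ a ∣ Nat.card G := by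
  haveI := Fact.mk hp
  obtain ⟨g, hg⟩ := exists_of_ocnt_ne_zero hn
  have hcyc : ∀ P : Sylow p G, IsCyclic ↥(P : Subgroup G) := by
    intro P
    let Q : Sylow p G := Sylow.ofCard (zpowers g) (by rw [Nat.card_zpowers, hg, ha])
    haveI : IsCyclic ↥(Q : Subgroup G) :=
      show IsCyclic ↥(zpowers g) from inferInstance
    exact isCyclic_of_surjective (P.equiv Q).symm.toMonoidHom (P.equiv Q).symm.surjective
  have e : ccnt G (p ^ a) = Nat.card (Sylow p G) := by
    refine Nat.card_congr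
      { toFun := fun C => Sylow.ofCard C.1 (by rw [C.2.2, ha])
        invFun := fun P => ⟨(P : Subgroup G), hcyc P, by rw [P.card_eq_multiplicity, ha]⟩
        left_inv := fun C => rfl
        right_inv := fun P => Sylow.ext rfl }
  obtain ⟨P⟩ : Nonempty (Sylow p G) := inferInstance
  have hP : Nat.card ↥(P : Subgroup G) = p ^ a := by rw [P.card_eq_multiplicity, ha]
  rw [e, ← (P : Subgroup G).card_mul_index, hP, mul_comm (p ^ a)]
  exact mul_dvd_mul_right P.card_dvd_index _

/-- The subgroups of prime order are permuted transitively when they are Sylow subgroups. -/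
theorem ccnt_prime_mul_dvd {p : ℕ} (hp : p.Prime) (h : p ∣ Nat.card G) (hp2 : ¬ p ^ 2 ∣ Nat.card G) :
    ccnt G p * p ∣ Nat.card G := by
  have ha : (Nat.card G).factorization p = 1 := by
    refine le_antisymm ?_ (hp.factorization_pos_of_dvd Nat.card_pos.ne' h)
    by_contra h'
    exact hp2 ((pow_dvd_pow p (show 2 ≤ (Nat.card G).factorization p by omega)).trans (Nat.ordProj_dvd _ _))
  have := ccnt_sylow_dvd hp ha (by rw [pow_one]; exact ocnt_ne_zero_of_prime hp h)
  rwa [pow_one] at this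

/-- A prime dividing the order of the normaliser of a subgroup of order `p`, and prime to `p * (p - 1)`, gives
an element of the product order. -/
theorem exists_order_mul_of_div {p q : ℕ} (hp : p.Prime) (hq : q.Prime) (hne : q ≠ p) (hq1 : ¬ q ∣ p - 1)
    (hp2 : ¬ p ^ 2 ∣ Nat.card G) (h : p ∣ Nat.card G) (hdiv : q ∣ Nat.card G / ccnt G p) :
    ocnt G (p * q) ≠ 0 := by
  haveI := Fact.mk hp
  haveI := Fact.mk hq

  obtain ⟨x, hx⟩ := exists_prime_orderOf_dvd_card' p h
  have ha : (Nat.card G).factorization p = 1 := by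
    refine le_antisymm ?_ (hp.factorization_pos_of_dvd Nat.card_pos.ne' h)
    by_contra h'
    exact hp2 ((pow_dvd_pow p (show 2 ≤ (Nat.card G).factorization p by omega)).trans (Nat.ordProj_dvd _ _))
  let P : Sylow p G := Sylow.ofCard (zpowers x) (by rw [Nat.card_zpowers, hx, ha, pow_one])
  have hidx : Nat.card (Sylow p G) = ccnt G p := by
    refine Nat.card_congr
      { toFun := fun Q => ⟨(Q : Subgroup G), ?_, by rw [Q.card_eq_multiplicity, ha, pow_one]⟩
        invFun := fun C => Sylow.ofCard C.1 (by rw [C.2.2, ha, pow_one])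
        left_inv := fun Q => Sylow.ext rfl
        right_inv := fun C => rfl }
    exact isCyclic_of_prime_card (p := p) (by rw [Q.card_eq_multiplicity, ha, pow_one])
  have hN : q ∣ Nat.card ↥(normalizer ((P : Subgroup G) : Set G)) := by
    have hpos : 0 < ccnt G p := hidx ▸ Nat.card_pos
    rwa [← card_mul_index (normalizer ((P : Subgroup G) : Set G)),
      show (normalizer ((P : Subgroup G) : Set G)).index = ccnt G p from P.card_eq_index_normalizer.symm.trans hidx,
      Nat.mul_div_cancel _ hpos] at hdiv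
  obtain ⟨y, hy⟩ := exists_prime_orderOf_dvd_card' q hN
  have hyq : orderOf y.1 = q := (orderOf_coe y).trans hy
  have hk : y.1 * x * y.1⁻¹ ∈ zpowers x := by
    have := (mem_normalizer_iff.1 y.2 x).1 (mem_zpowers x)
    exact this
  obtain ⟨k, hk'⟩ := (mem_powers_iff_mem_zpowers (x := x)).2 hk
  have hiter : ∀ j : ℕ, y.1 ^ j * x * (y.1 ^ j)⁻¹ = x ^ (k ^ j) := by
    intro j
    induction j with
    | zero => simp
    | succ j ih =>
      rw [pow_succ', mul_inv_rev, show y.1 * y.1 ^ j * x * ((y.1 ^ j)⁻¹ * y.1⁻¹) = y.1 * (y.1 ^ j * x * (y.1 ^ j)⁻¹) * y.1⁻¹ by group,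
        ih, ← conj_pow, ← hk', ← pow_mul, ← pow_succ' k j]
  have hq' := hiter q
  rw [← hyq, pow_orderOf_eq_one, one_mul, inv_one, mul_one, hyq] at hq'
  have h1 : ((k : ZMod p)) ^ q = 1 := by
    have hm : 1 ≡ k ^ q [MOD orderOf x] := by
      rw [← pow_eq_pow_iff_modEq, pow_one]; exact hq'
    rw [hx, ← ZMod.natCast_eq_natCast_iff] at hm
    simpa using hm.symm
  have hk1 : (k : ZMod p) = 1 := by
    have hk0 : (k : ZMod p) ≠ 0 := fun h0 => by rw [h0, zero_pow hq.ne_zero] at h1; exact zero_ne_one h1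
    have h2 := ZMod.pow_card_sub_one_eq_one hk0
    have h3 : orderOf (k : ZMod p) ∣ Nat.gcd q (p - 1) :=
      Nat.dvd_gcd (orderOf_dvd_of_pow_eq_one h1) (orderOf_dvd_of_pow_eq_one h2)
    rw [(hq.coprime_iff_not_dvd.2 hq1).gcd_eq_one, Nat.dvd_one, orderOf_eq_one_iff] at h3
    exact h3
  have hcomm : Commute y.1 x := by
    have hkx : x ^ k = x := by
      conv_rhs => rw [← pow_one x]
      rw [pow_eq_pow_iff_modEq, hx, ← ZMod.natCast_eq_natCast_iff]
      simpa using hk1
    have : y.1 * x * y.1⁻¹ = x := by rw [← hk']; exact hkx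
    exact mul_inv_eq_iff_eq_mul.1 this
  refine (ocnt_pos (g := x * y.1) ?_).ne'
  rw [hcomm.symm.orderOf_mul_eq_mul_orderOf_of_coprime (by rw [hx, hyq]; exact (Nat.coprime_primes hp hq).2 hne.symm),
    hx, hyq]

end CfsgLib.Char.SameCounts
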