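import Cfsg.Agent.Lib.Char.SameCounts.AltSix

/-!
A group of order 360 with 80 elements of order three, 144 of order five and no element of order above five
is simple.
-/

set_option autoImplicit false

open Subgroup

namespace CfsgLib.Char.SameCounts

universe u

variable {G : Type u} [Group G] [Finite G]

theorem mem_of_normal_of_sylow_order {p k : ℕ} [Fact p.Prime] {N : Subgroup G} [N.Normal]
    (hk : (Nat.card G).factorization p = k) (h : p ^ k ∣ Nat.card N) {g : G} (hg : orderOf g ∣ p ^ k) : g ∈ N := by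
  obtain ⟨Q, hQ⟩ := Sylow.exists_subgroup_card_pow_prime p h
  have hP : IsPGroup p (zpowers g) := by
    obtain ⟨i, -, hi⟩ := (Nat.dvd_prime_pow Fact.out).1 hg
    exact IsPGroup.of_card (n := i) (by rw [Nat.card_zpowers, hi])
  obtain ⟨P, hgP⟩ := hP.exists_le_sylow
  let Q' : Sylow p G := Sylow.ofCard (Q.map N.subtype)
    (by rw [card_map_of_injective N.subtype_injective, hQ, hk])
  obtain ⟨c, hc⟩ := MulAction.exists_smul_eq G Q' P
  have hy : g ∈ ((c • Q' : Sylow p G) : Subgroup G) := by rw [hc]; exact hgP (mem_zpowers g)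
  rw [Sylow.coe_subgroup_smul, mem_pointwise_smul_iff_inv_smul_mem] at hy
  obtain ⟨q, -, hq⟩ : c⁻¹ * g * c ∈ Q.map N.subtype := by simpa [MulAut.smul_def, Q', Sylow.ofCard] using hy
  have : c * (c⁻¹ * g * c) * c⁻¹ ∈ N := (inferInstance : N.Normal).conj_mem _ (hq ▸ q.2) c
  simpa [mul_assoc] using this

theorem isSimpleGroup_of_counts (h : Nat.card G = 360) (h3 : ocnt G 3 = 80) (h5 : ocnt G 5 = 144)
    (hmax : ∀ g : G, orderOf g ≤ 5) : IsSimpleGroup G := by
  haveI : Nontrivial G := Finite.one_lt_card_iff_nontrivial.1 (by rw [h]; norm_num)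
  haveI : Fact (Nat.Prime 5) := ⟨Nat.prime_five⟩
  haveI : Fact (Nat.Prime 3) := ⟨Nat.prime_three⟩
  refine { eq_bot_or_eq_top_of_normal := fun N hN => ?_ }
  haveI := hN
  have hmul := N.card_mul_index
  rw [h] at hmul
  have hf5 : (Nat.card G).factorization 5 = 1 :=
    factorization_eq_of (by omega) Nat.prime_five (by rw [h]; norm_num) (by rw [h]; norm_num)
  have hf3 : (Nat.card G).factorization 3 = 2 :=
    factorization_eq_of (by omega) Nat.prime_three (by rw [h]; norm_num) (by rw [h]; norm_num)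
  have hm5 : 5 ∣ Nat.card N → ∀ g : G, orderOf g = 5 → g ∈ N := fun hd g hg =>
    mem_of_normal_of_sylow_order (p := 5) (k := 1) hf5 (by simpa using hd) (by rw [hg]; norm_num)
  have hm3 : 9 ∣ Nat.card N → ∀ g : G, orderOf g = 3 → g ∈ N := fun hd g hg =>
    mem_of_normal_of_sylow_order (p := 3) (k := 2) hf3 (by simpa using hd) (by rw [hg]; norm_num)
  have hcount : ∀ q, (∀ g : G, orderOf g = q → g ∈ N) → ocnt G q ≤ Nat.card N := fun q hq =>
    Nat.card_le_card_of_injective (fun y : {g : G // orderOf g = q} => (⟨y.1, hq y.1 y.2⟩ : ↥N))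
      fun a b e => Subtype.ext (congrArg (fun z : ↥N => z.1) e)
  have hdvd : Nat.card N ∈ (360 : ℕ).divisors :=
    Nat.mem_divisors.2 ⟨h ▸ N.card_subgroup_dvd_card, by norm_num⟩
  by_cases h1 : Nat.card N = 1
  · exact Or.inl (card_eq_one.1 h1)
  by_cases htop : Nat.card N = 360
  · exact Or.inr (eq_top_of_card_eq N (htop.trans h.symm))
  exfalso
  obtain ⟨x, hx⟩ := exists_prime_orderOf_dvd_card' 5 (show 5 ∣ Nat.card G by rw [h]; norm_num)
  by_cases hd5 : 5 ∣ Nat.card N
  · have hl := hcount 5 (hm5 hd5)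
    rw [h5] at hl
    have h180 : Nat.card N = 180 := by
      have : ∀ d ∈ (360 : ℕ).divisors, d ≠ 360 → 144 ≤ d → d = 180 := by decide
      exact this _ hdvd htop hl
    have hl3 := hcount 3 (hm3 (by rw [h180]; norm_num))
    classical
    haveI := Fintype.ofFinite G
    have hsub : (Finset.univ.filter fun g : G => orderOf g = 3) ∪ (Finset.univ.filter fun g : G => orderOf g = 5)
        ⊆ Finset.univ.filter fun g : G => g ∈ N := by
      intro g hg
      simp only [Finset.mem_union, Finset.mem_filter, Finset.mem_univ, true_and] at hg ⊢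
      rcases hg with hg | hg
      · exact hm3 (by rw [h180]; norm_num) g hg
      · exact hm5 hd5 g hg
    have hle := Finset.card_le_card hsub
    rw [Finset.card_union_of_disjoint (Finset.disjoint_filter.2 fun g _ e => by omega), ← Fintype.card_subtype,
      ← Fintype.card_subtype, ← Fintype.card_subtype, ← Nat.card_eq_fintype_card, ← Nat.card_eq_fintype_card,
      ← Nat.card_eq_fintype_card] at hle
    change ocnt G 3 + ocnt G 5 ≤ Nat.card N at hle
    omega
  -- the element of order five acts without fixed points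
  have hnofix : ∀ n ∈ N, Commute x n → n = 1 := by
    intro n hn hc
    by_contra hn1
    have hc5 : (orderOf x).Coprime (orderOf n) := by
      rw [hx, Nat.prime_five.coprime_iff_not_dvd]
      intro hd
      refine hd5 (hd.trans ?_)
      have := orderOf_dvd_natCard (⟨n, hn⟩ : ↥N)
      rwa [orderOf_mk] at this
    have := hmax (x * n)
    rw [hc.orderOf_mul_eq_mul_orderOf_of_coprime hc5, hx] at this
    have h2 : 1 < orderOf n := Nat.one_lt_iff_ne_zero_and_ne_one.2
      ⟨(orderOf_pos n).ne', fun e => hn1 (orderOf_eq_one_iff.1 e)⟩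
    omega
  classical
  haveI := Fintype.ofFinite N
  let σ : Equiv.Perm ↥N :=
    { toFun := fun n => ⟨x * n.1 * x⁻¹, hN.conj_mem n.1 n.2 x⟩
      invFun := fun n => ⟨x⁻¹ * n.1 * x, hN.conj_mem' n.1 n.2 x⟩
      left_inv := fun n => Subtype.ext (by group)
      right_inv := fun n => Subtype.ext (by group) }
  have hσpow : ∀ (j : ℕ) (n : ↥N), ((σ ^ j) n).1 = x ^ j * n.1 * (x ^ j)⁻¹ := by
    intro j
    induction j with
    | zero => intro n; simp
    | succ j ih =>
      intro n
      rw [pow_succ', Equiv.Perm.mul_apply]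
      show x * ((σ ^ j) n).1 * x⁻¹ = _
      rw [ih, pow_succ']; group
  have hmod := Equiv.Perm.card_compl_support_modEq (p := 5) (n := 1) (σ := σ) (by
    rw [pow_one]
    refine Equiv.ext fun n => Subtype.ext ?_
    rw [hσpow, ← hx, pow_orderOf_eq_one]
    simp)
  have hfix : σ.supportᶜ = {1} := by
    ext n
    rw [Finset.mem_compl, Equiv.Perm.mem_support, not_not, Finset.mem_singleton]
    constructor
    · intro e
      exact Subtype.ext (hnofix n.1 n.2 (mul_inv_eq_iff_eq_mul.1 (congrArg Subtype.val e)))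
    · rintro rfl
      exact Subtype.ext (by show x * 1 * x⁻¹ = 1; group)
  rw [hfix, Finset.card_singleton, ← Nat.card_eq_fintype_card] at hmod
  have hcases : Nat.card N = 6 ∨ Nat.card N = 36 := by
    have hmod' : Nat.card N % 5 = 1 := hmod.symm
    have : ∀ d ∈ (360 : ℕ).divisors, d % 5 = 1 → d ≠ 1 → d = 6 ∨ d = 36 := by decide
    exact this _ hdvd hmod' h1
  rcases hcases with h6 | h36
  · obtain ⟨y, hy⟩ := exists_prime_orderOf_dvd_card' 3 (show 3 ∣ Nat.card N by rw [h6]; norm_num)
    set C := zpowers y with hC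
    have hCcard : Nat.card C = 3 := by rw [hC, Nat.card_zpowers, hy]
    have hCnorm : C.Normal := normal_of_index_eq_two (by
      have := C.card_mul_index; rw [hCcard, h6] at this; omega)
    have hyx : (⟨x * y.1 * x⁻¹, hN.conj_mem y.1 y.2 x⟩ : ↥N) ∈ C := by
      by_contra hmem
      have ho : orderOf (⟨x * y.1 * x⁻¹, hN.conj_mem y.1 y.2 x⟩ : ↥N) = 3 := by
        rw [orderOf_mk, ← MulAut.conj_apply, MulEquiv.orderOf_eq,
          orderOf_coe, hy]
      have hq := orderOf_map_dvd (QuotientGroup.mk' C) (⟨x * y.1 * x⁻¹, hN.conj_mem y.1 y.2 x⟩ : ↥N)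
      have hq2 := orderOf_dvd_natCard (QuotientGroup.mk' C (⟨x * y.1 * x⁻¹, hN.conj_mem y.1 y.2 x⟩ : ↥N))
      have hidx : Nat.card (↥N ⧸ C) = 2 := by
        have := C.card_mul_index; rw [hCcard, h6] at this; rw [← index_eq_card]; omega
      rw [hidx] at hq2
      rw [ho] at hq
      have h1' := Nat.eq_one_of_dvd_coprimes (show Nat.Coprime 3 2 by decide) hq hq2
      exact hmem ((QuotientGroup.eq_one_iff _).1 (orderOf_eq_one_iff.1 h1'))
    obtain ⟨k, hk⟩ := mem_powers_iff_mem_zpowers.2 hyx
    have hk' : y.1 ^ k = x * y.1 * x⁻¹ := congrArg Subtype.val hk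
    have hy3 : orderOf y.1 = 3 := by rw [orderOf_coe, hy]
    have hiter : ∀ j : ℕ, x ^ j * y.1 * (x ^ j)⁻¹ = y.1 ^ (k ^ j) := by
      intro j
      induction j with
      | zero => simp
      | succ j ih =>
        rw [pow_succ', mul_inv_rev, show x * x ^ j * y.1 * ((x ^ j)⁻¹ * x⁻¹) = x * (x ^ j * y.1 * (x ^ j)⁻¹) * x⁻¹ by group,
          ih, ← conj_pow, ← hk', ← pow_mul, ← pow_succ' k j]
    have h5' := hiter 5
    rw [← hx, pow_orderOf_eq_one, hx, one_mul, inv_one, mul_one] at h5'
    have hk3 : k % 3 = 1 := by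
      have hm : k ^ 5 ≡ 1 [MOD 3] := by
        rw [← hy3, ← pow_eq_pow_iff_modEq, pow_one]; exact h5'.symm
      have hm' : k ^ 5 % 3 = 1 := hm
      rw [Nat.pow_mod] at hm'
      have key : ∀ r < 3, r ^ 5 % 3 = 1 → r = 1 := by decide
      exact key _ (Nat.mod_lt _ (by norm_num)) hm'
    have hcom : Commute x y.1 := by
      refine mul_inv_eq_iff_eq_mul.1 ?_
      rw [← hk', ← pow_mod_orderOf, hy3, hk3, pow_one]
    have := hnofix y.1 y.2 hcom
    rw [this, orderOf_one] at hy3
    norm_num at hy3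
  · have hl := hcount 3 (hm3 (by rw [h36]; norm_num))
    omega

end CfsgLib.Char.SameCounts
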